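import Groth.Agent.CommFormLib.Bad
import Mathlib.Algebra.Polynomial.Laurent

/-!
# Linearity over an affine base with a unit in the locus
-/

set_option autoImplicit false
set_option backward.isDefEq.respectTransparency false
set_option backward.isDefEq.respectTransparency.types false
set_option linter.style.haveILetI false
set_option linter.unusedSectionVars false

universe u

open CategoryTheory Limits MonoidalCategory CartesianMonoidalCategory MonObj GrpObj AlgebraicGeometry TopologicalSpace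

noncomputable section

namespace Groth.Agent.CommFormLib

open Groth.Agent.RankOneRelLib Groth.Agent.RankOneCellLib
open Groth.Agent.GaPoints (ringMap ringMap_injective ringMap_comp_SpecMap exists_ringMap)

variable {S : Scheme.{u}} {G T : Over S} [GrpObj G] [GrpObj T]
  {i : T ⟶ G} [IsMonHom i] {α : T ⟶ Red.Gm S}
  [IsMonHom α] {pp pm : Red.Ga S ⟶ G} [IsMonHom pp] [IsMonHom pm]
  [hΩ : IsOpenImmersion (cellMap i pp pm).left] (hP : Pre i α pp pm) (hnc : NC pp pm)

theorem ringMap_comp {A : CommRingCat.{u}} {q : Spec A ⟶ S} {X X' : Over S} (e' : X' ⟶ X) (e : X ⟶ Over.mk q)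
    (r : A) : e'.left.appTop (ringMap e.left r) = ringMap (e' ≫ e).left r := rfl

theorem cst_isUnit_iff {A : CommRingCat.{u}} (q : Spec A ⟶ S) (r : A) : IsUnit (cst q r) ↔ IsUnit r := by
  refine ⟨fun h => ?_, fun h => h.map (Scheme.ΓSpecIso A).inv.hom⟩
  exact (congrArg IsUnit ((Scheme.ΓSpecIso A).inv_hom_id_apply r)).mp (h.map (Scheme.ΓSpecIso A).hom.hom)

include hP hnc

/-- At a geometric point the slope is determined by a unit in the locus. -/
theorem slope_geom {A : CommRingCat.{u}} (q : Spec A ⟶ S) {v0 f0 q0 : A} (hv0 : IsUnit v0) {C0 : Over.mk q ⟶ T}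
    {H0 : Γ((Over.mk q).left, ⊤)} (h0 : Rel i pp pm (cst q v0) 1 (cst q f0) C0 H0) (hq0 : f0 * (1 + q0 * v0) = 1)
    {L : Type u} [Field L] [IsAlgClosed L] {q' : Spec (CommRingCat.of L) ⟶ S} (ε : Over.mk q' ⟶ Over.mk q)
    (b : Γ((Over.mk q').left, ⊤)) :
    ringMap ε.left q0 ≠ 0 ∧ (InD i pp pm b ↔ 1 + ringMap ε.left q0 * b ≠ 0) ∧
      ∀ F C H, Rel i pp pm b 1 F C H → F * (1 + ringMap ε.left q0 * b) = 1 := by
  obtain ⟨Q, hQ0, hQ, hQF⟩ := exists_field_q hP hnc q'
  obtain ⟨v', hv'⟩ := cst_surjective q' (ringMap ε.left v0)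
  obtain ⟨f', hf'⟩ := cst_surjective q' (ringMap ε.left f0)
  obtain ⟨s, hs⟩ := cst_surjective q' (ringMap ε.left q0)
  have h1 := h0.comp ε
  rw [pullback_cst, pullback_cst, map_one, ← hv', ← hf'] at h1
  have k1 := hQF _ _ _ _ h1
  have k2 : f' * (1 + s * v') = 1 := cst_injective q' (by
    show (Scheme.ΓSpecIso _).inv.hom _ = (Scheme.ΓSpecIso _).inv.hom _
    simp only [map_mul, map_add, map_one]
    show cst q' f' * (1 + cst q' s * cst q' v') = 1
    rw [hf', hs, hv', ← map_mul (ringMap ε.left), ← map_one (ringMap ε.left), ← map_add (ringMap ε.left),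
      ← map_mul (ringMap ε.left), hq0])
  have hv'0 : v' ≠ 0 := fun h => ne_zero_of_isUnit ((hv0.map (ringMap ε.left))) (by rw [← hv', h]; exact map_zero _)
  have hf'0 : f' ≠ 0 := fun h => by
    rw [h, zero_mul] at k1
    exact zero_ne_one k1
  have hsQ : s = Q := mul_right_cancel₀ hv'0 (add_left_cancel (mul_left_cancel₀ hf'0 (k2.trans k1.symm)))
  subst hsQ
  obtain ⟨b', rfl⟩ := cst_surjective q' b
  have e : 1 + ringMap ε.left q0 * cst q' b' = cst q' (1 + s * b') := by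
    rw [← hs]; simp only [cst, map_add, map_one, map_mul]
  refine ⟨?_, ?_, fun F C H h => ?_⟩
  · rw [← hs]
    exact fun h => hQ0 (cst_injective q' (h.trans (map_zero _).symm))
  · rw [e, hQ]
    exact ⟨fun h h' => h (cst_injective q' (h'.trans (map_zero _).symm)),
      fun h h' => h (by rw [h']; exact map_zero _)⟩
  · obtain ⟨F', rfl⟩ := cst_surjective q' F
    rw [e]
    exact ((Scheme.ΓSpecIso (CommRingCat.of L)).inv.hom.map_mul F' (1 + s * b')).symm.trans
      ((congrArg (cst q') (hQF _ _ _ _ h)).trans (map_one _))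

/-- Linearity over an affine base with a unit in the locus. -/
theorem linear_affine {A : CommRingCat.{u}} (q : Spec A ⟶ S) (v0 : A) (hv0 : IsUnit v0)
    (hd0 : InD i pp pm (cst q v0)) :
    ∃ q0 : A, IsUnit q0 ∧ ∀ (X : Over S) (e : X ⟶ Over.mk q) (a : Γ(X.left, ⊤)),
      (InD i pp pm a ↔ IsUnit (1 + ringMap e.left q0 * a)) ∧
      ∀ F C H, Rel i pp pm a 1 F C H → F * (1 + ringMap e.left q0 * a) = 1 := by
  obtain ⟨F0, C0, H0, h0⟩ := exists_rel hd0
  obtain ⟨f0, rfl⟩ := cst_surjective q F0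
  obtain ⟨f0u, hf0u⟩ := (cst_isUnit_iff q f0).1 (isUnit_F hP h0)
  obtain ⟨v0u, hv0u⟩ := hv0
  let q0 : A := (f0u⁻¹.1 - 1) * v0u⁻¹.1
  have hq0 : f0 * (1 + q0 * v0) = 1 := by
    rw [← hf0u, ← hv0u]
    linear_combination Units.mul_inv f0u + (f0u.1 * (f0u⁻¹.1 - 1)) * Units.inv_mul v0u
  have key := fun {L : Type u} [Field L] [IsAlgClosed L] {q' : Spec (CommRingCat.of L) ⟶ S}
    (ε : Over.mk q' ⟶ Over.mk q) (b : Γ((Over.mk q').left, ⊤)) =>
      slope_geom hP hnc q (hv0u ▸ v0u.isUnit) h0 hq0 ε b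
  obtain ⟨qu, hqu⟩ : IsUnit q0 := (cst_isUnit_iff q q0).1
    (isUnit_of_geom _ fun L _ _ q' ε => (key ε 0).1)
  have hD : ∀ (X : Over S) (e : X ⟶ Over.mk q) (a : Γ(X.left, ⊤)),
      InD i pp pm a ↔ IsUnit (1 + ringMap e.left q0 * a) := fun X e a => by
    refine ⟨fun h => isUnit_of_geom _ fun L _ _ q' e' => ?_, fun h => inD_of_geom a fun L _ _ q' e' => ?_⟩
    · rw [map_add, map_one, map_mul]
      exact (key (e' ≫ e) _).2.1.1 (h.comp e')
    · refine (key (e' ≫ e) _).2.1.2 ?_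
      have := ne_zero_of_isUnit (h.map e'.left.appTop.hom)
      rwa [map_add, map_one, map_mul] at this
  refine ⟨q0, ⟨qu, hqu⟩, fun X₀ e₀ a₀ => ⟨hD X₀ e₀ a₀, fun F₀ C₀ H₀ hrel => ?_⟩⟩
  -- the universal point
  let R := LaurentPolynomial A
  let φ : A ⟶ CommRingCat.of R := CommRingCat.ofHom (LaurentPolynomial.C : A →+* R)
  let qR : Spec (CommRingCat.of R) ⟶ S := Spec.map φ ≫ q
  let eR : Over.mk qR ⟶ Over.mk q := Over.homMk (Spec.map φ)
  let aR : R := LaurentPolynomial.C qu⁻¹.1 * (LaurentPolynomial.T 1 - 1)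
  have hρR : ∀ r, ringMap eR.left r = cst qR (LaurentPolynomial.C r) := fun r =>
    (congrArg (fun m => m.hom r) (Scheme.ΓSpecIso_inv_naturality φ)).symm
  have haR : InD i pp pm (cst qR aR) := (hD _ eR _).2 (by
    rw [hρR]
    have e : (1 : R) + LaurentPolynomial.C q0 * aR = LaurentPolynomial.T 1 := by
      have := congrArg (LaurentPolynomial.C : A →+* R) (Units.mul_inv qu)
      rw [map_mul, map_one, hqu] at this
      linear_combination (LaurentPolynomial.T 1 - 1 : R) * this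
    rw [← map_one (Scheme.ΓSpecIso (CommRingCat.of R)).inv.hom, cst, cst]
    erw [← (Scheme.ΓSpecIso (CommRingCat.of R)).inv.hom.map_mul, ← (Scheme.ΓSpecIso (CommRingCat.of R)).inv.hom.map_add, e]
    exact (LaurentPolynomial.isUnit_T 1).map (Scheme.ΓSpecIso (CommRingCat.of R)).inv.hom)
  obtain ⟨FR, CR, HR, hR⟩ := exists_rel haR
  obtain ⟨pF, rfl⟩ := cst_surjective qR FR
  obtain ⟨pu, hpu⟩ := (cst_isUnit_iff qR pF).1 (isUnit_F hP hR)
  have ev : ∀ {X : Over S} (e : X ⟶ Over.mk q) (ζ : Γ(X.left, ⊤)ˣ), ∃ C H,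
      Rel i pp pm (ringMap e.left qu⁻¹.1 * (ζ.1 - 1)) 1 (LaurentPolynomial.eval₂ (ringMap e.left) ζ pF) C H := by
    intro X e ζ
    obtain ⟨f, hf, -⟩ := exists_over q φ e (LaurentPolynomial.eval₂ (ringMap e.left) ζ)
      (RingHom.ext fun r => LaurentPolynomial.eval₂_C _ _ r)
    have h := hR.comp f
    rw [pullback_cst, pullback_cst, map_one, hf] at h
    rw [map_mul, LaurentPolynomial.eval₂_C, map_sub, map_one, LaurentPolynomial.eval₂_T, zpow_one] at h
    exact ⟨_, _, h⟩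
  -- divide `g - 1` by the coordinate
  obtain ⟨n, P, hPn⟩ := LaurentPolynomial.exists_T_pow (pu⁻¹.1 - 1)
  have hg : ∀ {X : Over S} (e : X ⟶ Over.mk q) (ζ : Γ(X.left, ⊤)ˣ),
      LaurentPolynomial.eval₂ (ringMap e.left) ζ pu⁻¹.1 * LaurentPolynomial.eval₂ (ringMap e.left) ζ pF = 1 :=
    fun e ζ => by rw [← map_mul, ← hpu, Units.inv_mul, map_one]
  have hev' : ∀ {X : Over S} (e : X ⟶ Over.mk q) (ζ : Γ(X.left, ⊤)ˣ),
      (LaurentPolynomial.eval₂ (ringMap e.left) ζ pu⁻¹.1 - 1) * ζ.1 ^ n = P.eval₂ (ringMap e.left) ζ.1 := fun e ζ => by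
    rw [← LaurentPolynomial.eval₂_toLaurent, hPn, map_mul, map_sub, map_one, LaurentPolynomial.eval₂_T_n]
  have hP1 : P.IsRoot 1 := by
    obtain ⟨C1, H1, h1⟩ := ev (𝟙 (Over.mk q)) 1
    rw [Units.val_one, sub_self, mul_zero] at h1
    obtain ⟨hF1, -, -⟩ := h1.inj (rel_zero _)
    have e1 := hev' (𝟙 (Over.mk q)) 1
    have e2 := hg (𝟙 (Over.mk q)) 1
    rw [hF1, _root_.mul_one] at e2
    rw [e2, sub_self, zero_mul, Units.val_one,
      show (1 : Γ((Over.mk q).left, ⊤)) = ringMap (Y := (Over.mk q).left) (𝟙 (Over.mk q) : Over.mk q ⟶ Over.mk q).left 1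
        from (map_one _).symm, Polynomial.eval₂_at_apply] at e1
    exact cst_injective q (e1.symm.trans (map_zero _).symm)
  obtain ⟨Q, hQ⟩ := Polynomial.dvd_iff_isRoot.2 hP1
  have hunit : ∀ {X : Over S} (e : X ⟶ Over.mk q) (ζ : Γ(X.left, ⊤)ˣ), IsUnit (Q.eval₂ (ringMap e.left) ζ.1) := by
    intro X e ζ
    refine isUnit_of_geom _ fun L _ _ q' e' => ?_
    let ψ : A →+* L := (Scheme.ΓSpecIso (CommRingCat.of L)).hom.hom.comp (ringMap (e' ≫ e).left)
    have hψ : ∀ r, cst q' (ψ r) = ringMap (e' ≫ e).left r := fun r =>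
      (Scheme.ΓSpecIso (CommRingCat.of L)).hom_inv_id_apply _
    have hQψ : Q.map ψ = Polynomial.X ^ n := by
      rw [← sub_eq_zero]
      refine Polynomial.eq_zero_of_infinite_isRoot _ (Set.Infinite.mono (s := ({0, 1} : Set L)ᶜ) ?_
        (Set.toFinite _).infinite_compl)
      intro z hz
      simp only [Set.mem_compl_iff, Set.mem_insert_iff, Set.mem_singleton_iff, not_or] at hz
      let ζ' : Γ((Over.mk q').left, ⊤)ˣ :=
        Units.map (Scheme.ΓSpecIso (CommRingCat.of L)).inv.hom.toMonoidHom (Units.mk0 z hz.1)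
      obtain ⟨C', H', h'⟩ := ev (e' ≫ e) ζ'
      have k := (key (e' ≫ e) _).2.2 _ _ _ h'
      have e2 : ringMap (e' ≫ e).left q0 * (ringMap (e' ≫ e).left qu⁻¹.1 * (ζ'.1 - 1)) = ζ'.1 - 1 := by
        rw [← _root_.mul_assoc, ← map_mul, ← hqu, Units.mul_inv, map_one, _root_.one_mul]
      rw [e2, add_sub_cancel] at k
      have k2 : LaurentPolynomial.eval₂ (ringMap (e' ≫ e).left) ζ' pu⁻¹.1 = ζ'.1 := by
        linear_combination ζ'.1 * hg (e' ≫ e) ζ' - LaurentPolynomial.eval₂ (ringMap (e' ≫ e).left) ζ' pu⁻¹.1 * k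
      have k3 := hev' (e' ≫ e) ζ'
      rw [k2, hQ, Polynomial.eval₂_mul, Polynomial.eval₂_sub, Polynomial.eval₂_X, Polynomial.eval₂_C, map_one,
        show Q.eval₂ (ringMap (e' ≫ e).left) ζ'.1 = cst q' ((Q.map ψ).eval z) by
          rw [Polynomial.eval_map]
          exact ((Polynomial.hom_eval₂ Q ψ (Scheme.ΓSpecIso (CommRingCat.of L)).inv.hom z).trans
            (congrArg (fun m : A →+* Γ((Over.mk q').left, ⊤) => Q.eval₂ m ζ'.1) (RingHom.ext hψ))).symm] at k3
      show (Q.map ψ - Polynomial.X ^ n).eval z = 0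
      rw [Polynomial.eval_sub, Polynomial.eval_pow, Polynomial.eval_X, sub_eq_zero]
      refine mul_left_cancel₀ (sub_ne_zero.2 hz.2) (cst_injective q' ?_)
      simp only [cst, map_mul, map_sub, map_one, map_pow]
      exact k3.symm
    obtain ⟨z, hz⟩ := cst_surjective q' (e'.left.appTop ζ.1)
    have e1 : e'.left.appTop (Q.eval₂ (ringMap e.left) ζ.1) = cst q' ((Q.map ψ).eval z) := by
      rw [Polynomial.eval_map]
      refine (Polynomial.hom_eval₂ Q (ringMap e.left) e'.left.appTop.hom ζ.1).trans ?_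
      rw [← hz]
      exact ((Polynomial.hom_eval₂ Q ψ (Scheme.ΓSpecIso (CommRingCat.of L)).inv.hom z).trans
        (congrArg (fun m : A →+* Γ((Over.mk q').left, ⊤) => Q.eval₂ m (cst q' z)) (RingHom.ext hψ))).symm
    rw [e1, hQψ, Polynomial.eval_pow, Polynomial.eval_X, cst, map_pow]
    refine ne_zero_of_isUnit (IsUnit.pow n ?_)
    show IsUnit (cst q' z)
    rw [hz]
    exact ζ.isUnit.map e'.left.appTop.hom
  -- a value with trivial function is zero
  have hinj : ∀ {X : Over S} (e : X ⟶ Over.mk q) {w : Γ(X.left, ⊤)} {C : X ⟶ T} {H : Γ(X.left, ⊤)},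
      Rel i pp pm w 1 1 C H → w = 0 := by
    intro X e w C H h
    obtain ⟨ζ, hζ⟩ := (hD X e w).1 h.inCell
    obtain ⟨C', H', h'⟩ := ev e ζ
    rw [show ringMap e.left qu⁻¹.1 * (ζ.1 - 1) = w by
      rw [hζ, add_sub_cancel_left, ← _root_.mul_assoc, ← map_mul, ← hqu, Units.inv_mul, map_one, _root_.one_mul]] at h'
    obtain ⟨hF, -, -⟩ := h'.inj h
    have e2 := hg e ζ
    rw [hF, _root_.mul_one] at e2
    have e3 := hev' e ζ
    rw [e2, sub_self, zero_mul, hQ, Polynomial.eval₂_mul, Polynomial.eval₂_sub, Polynomial.eval₂_X, Polynomial.eval₂_C,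
      map_one, eq_comm, (hunit e ζ).mul_left_eq_zero, hζ, add_sub_cancel_left] at e3
    obtain ⟨u', hu'⟩ := (show IsUnit q0 from ⟨qu, hqu⟩).map (ringMap e.left)
    rw [← hu'] at e3
    exact (IsUnit.mul_right_eq_zero u'.isUnit).1 e3
  -- equal functions give equal values
  have heq : ∀ {a b F : Γ(X₀.left, ⊤)} {C C' : X₀ ⟶ T} {H H' : Γ(X₀.left, ⊤)},
      Rel i pp pm a 1 F C H → Rel i pp pm b 1 F C' H' → a = b := by
    intro a b F C C' H H' ha hb
    obtain ⟨Fu, rfl⟩ := isUnit_F hP ha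
    obtain ⟨hin, hrel'⟩ := rel_add hP (u := b - a) ha
    rw [sub_add_cancel] at hin hrel'
    obtain ⟨F', C'', H'', h''⟩ := exists_rel (hin.1 hb.inCell)
    obtain ⟨hF, -, -⟩ := (hrel' _ _ _ h'').inj hb
    rw [show F' = 1 from Fu.isUnit.mul_left_cancel (hF.trans (_root_.mul_one _).symm)] at h''
    have := hinj e₀ h''
    rw [Units.mul_left_eq_zero, sub_eq_zero] at this
    exact this.symm
  -- exchange with the given unit
  have h0' := h0.comp e₀
  rw [pullback_cst, pullback_cst, map_one] at h0'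
  obtain ⟨Fu, rfl⟩ := isUnit_F hP hrel
  obtain ⟨Gu, hGu⟩ := ((cst_isUnit_iff q f0).1 (isUnit_F hP h0)).map (ringMap e₀.left)
  rw [← hGu] at h0'
  have ha := (rel_add hP (u := Fu⁻¹.1 * ringMap e₀.left v0) hrel).2 _ _ _
    (by rw [mul_right_comm, Units.inv_mul, _root_.one_mul]; exact h0')
  have hb := (rel_add hP (u := Gu⁻¹.1 * a₀) h0').2 _ _ _
    (by rw [mul_right_comm, Units.inv_mul, _root_.one_mul]; exact hrel)
  rw [mul_comm Gu.1 Fu.1] at hb
  have hE := heq ha hb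
  have hG : Gu⁻¹.1 = 1 + ringMap e₀.left q0 * ringMap e₀.left v0 := by
    have k := congrArg (ringMap e₀.left) hq0
    rw [map_mul, map_add, map_one, map_mul, ← hGu] at k
    linear_combination -Gu⁻¹.1 * k + (1 + ringMap e₀.left q0 * ringMap e₀.left v0) * Units.inv_mul Gu
  obtain ⟨vu, hvu⟩ := (show IsUnit v0 from ⟨v0u, hv0u⟩).map (ringMap e₀.left)
  rw [hG] at hE
  have hF : Fu⁻¹.1 = 1 + ringMap e₀.left q0 * a₀ := vu.isUnit.mul_left_cancel (by rw [hvu]; linear_combination hE)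
  rw [← hF, Units.mul_inv]

end Groth.Agent.CommFormLib
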