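import Groth.Agent.CommFormLib.NoBad

/-!
# Exactly one value lies outside the locus
-/

set_option autoImplicit false
set_option backward.isDefEq.respectTransparency false
set_option backward.isDefEq.respectTransparency.types false
set_option linter.style.haveILetI false
set_option linter.unusedSectionVars false

universe u

open CategoryTheory Limits MonoidalCategory CartesianMonoidalCategory MonObj GrpObj AlgebraicGeometry TopologicalSpace

noncomputable section

namespace Groth.Agent.CommFormLib

open Groth.Agent.RankOneRelLib Groth.Agent.RankOneCellLib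
open Groth.Agent.GaPoints (ringMap ringMap_injective ringMap_comp_SpecMap exists_ringMap)

variable {S : Scheme.{u}} {G T : Over S} [GrpObj G] [GrpObj T]

/-- The two root maps commute on no geometric fibre. -/
def NC (pp pm : Red.Ga S ⟶ G) : Prop :=
  ∀ s : S, ∃ (X : Over (Spec (CommRingCat.of (AlgebraicClosure (S.residueField s)))))
      (x y : X ⟶ Red.bc (Red.geomPt s) (Red.Ga S)),
      (x ≫ (Over.pullback (Red.geomPt s)).map pp) * (y ≫ (Over.pullback (Red.geomPt s)).map pm) ≠
        (y ≫ (Over.pullback (Red.geomPt s)).map pm) * (x ≫ (Over.pullback (Red.geomPt s)).map pp)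

variable {i : T ⟶ G} [IsMonHom i] {α : T ⟶ Red.Gm S}
  [IsMonHom α] {pp pm : Red.Ga S ⟶ G} [IsMonHom pp] [IsMonHom pm]
  [hΩ : IsOpenImmersion (cellMap i pp pm).left] (hP : Pre i α pp pm) (hnc : NC pp pm)

include hP in
theorem inD_all_of_all {K : Type u} [Field K] [IsAlgClosed K] {q : Spec (CommRingCat.of K) ⟶ S}
    (h : ∀ a : K, InD i pp pm (cst q a)) (X : Over S) (e : X ⟶ Over.mk q) (a : Γ(X.left, ⊤)) :
    InD i pp pm a := by
  refine inD_of_geom a fun L _ _ q' e' => ?_
  by_contra hbad
  obtain ⟨r, hr⟩ := cst_surjective q' (e'.left.appTop a)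
  rw [← hr] at hbad
  let ε : Over.mk q' ⟶ Over.mk q := e' ≫ e
  obtain ⟨ψ, hψ⟩ := Spec.map_surjective ε.left
  have hε : ∀ c : K, ε.left.appTop (cst q c) = cst q' (ψ.hom c) := fun c => by
    rw [← hψ]
    exact (congrArg (fun m => m.hom c) (Scheme.ΓSpecIso_inv_naturality ψ)).symm
  obtain ⟨F, C, H, hv⟩ := exists_rel (h 1)
  obtain ⟨f, rfl⟩ := cst_surjective q F
  have hv' := hv.comp ε
  rw [hε, hε, map_one ε.left.appTop.hom] at hv'
  obtain ⟨-, hval⟩ := value_of_bad hP hv' hbad
  rw [map_one ψ.hom] at hval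
  have hf1 : f ≠ 1 := fun h1 => by
    rw [h1, map_one ψ.hom] at hval
    exact one_ne_zero (α := L) (by linear_combination -hval)
  have hr' : r = ψ.hom (f / (f - 1)) := by
    rw [map_div₀ ψ.hom, map_sub ψ.hom, map_one ψ.hom, eq_div_iff (by
      rw [← map_one ψ.hom, ← map_sub ψ.hom]
      exact fun h0 => sub_ne_zero.2 hf1 (ψ.hom.injective (h0.trans (map_zero _).symm)))]
    linear_combination hval
  refine hbad ?_
  rw [hr', ← hε]
  exact (h _).comp ε

include hP hnc in
theorem exists_bad {K : Type u} [Field K] [IsAlgClosed K] (q : Spec (CommRingCat.of K) ⟶ S) :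
    ∃ r : K, ¬ InD i pp pm (cst q r) := by
  by_contra h
  push Not at h
  obtain ⟨⟨s, φ⟩, hφ⟩ := (Scheme.SpecToEquivOfField K S).symm.surjective q
  replace hφ : Spec.map φ ≫ S.fromSpecResidueField s = q := hφ
  letI : Algebra (S.residueField s) K := φ.hom.toAlgebra
  let jK : AlgebraicClosure (S.residueField s) →ₐ[S.residueField s] K := IsAlgClosed.lift
  have hq : Spec.map (CommRingCat.ofHom jK.toRingHom) ≫ Red.geomPt s = q := by
    rw [← hφ, Red.geomPt, ← Category.assoc, ← Spec.map_comp]
    congr 2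
    exact CommRingCat.hom_ext jK.comp_algebraMap
  obtain ⟨X, x, y, hne⟩ := hnc s
  refine hne ?_
  let j := Red.geomPt s
  have hlift : ∀ {H : Over S} (g : X ⟶ Red.bc j H),
      ∃ g₁ : (Over.map j).obj X ⟶ H, g = (Over.mapPullbackAdj j).unit.app X ≫ (Over.pullback j).map g₁ := fun {H} g =>
    ⟨((Over.mapPullbackAdj j).homEquiv X H).symm g,
      (((Over.mapPullbackAdj j).homEquiv X H).apply_symm_apply g).symm.trans ((Over.mapPullbackAdj j).homEquiv_unit X H _)⟩
  obtain ⟨x₁, rfl⟩ := hlift x
  obtain ⟨y₁, rfl⟩ := hlift y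
  suffices key : (x₁ ≫ pp) * (y₁ ≫ pm) = (y₁ ≫ pm) * (x₁ ≫ pp) by
    have hm := congrArg (fun g => (Over.mapPullbackAdj j).unit.app X ≫ (Over.pullback j).map g) key
    simp only [Functor.map_mul, Functor.map_comp, MonObj.comp_mul] at hm
    simpa only [Category.assoc] using hm
  -- descend from the larger field
  let P : Over S := (Over.map j).obj X
  let k := Spec.map (CommRingCat.ofHom jK.toRingHom)
  haveI : Flat k := (HasRingHomProperty.Spec_iff (P := @Flat)).2 (MonoFibre.flat_of_field _)
  haveI : Surjective k := ⟨fun _ => ⟨IsLocalRing.closedPoint K,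
    @Subsingleton.elim _ (inferInstanceAs (Subsingleton (PrimeSpectrum (AlgebraicClosure (S.residueField s))))) _ _⟩⟩
  let P' : Over S := Over.mk (pullback.fst X.hom k ≫ P.hom)
  let p : P' ⟶ P := Over.homMk (pullback.fst X.hom k)
  haveI : Flat p.left := MorphismProperty.pullback_fst _ _ inferInstance
  haveI : Surjective p.left := MorphismProperty.pullback_fst _ _ inferInstance
  haveI : Epi p := epi_of_flat_surj p inferInstance inferInstance
  let e : P' ⟶ Over.mk q := Over.homMk (pullback.snd X.hom k) (by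
    show pullback.snd X.hom k ≫ q = pullback.fst X.hom k ≫ X.hom ≫ j
    rw [← hq, ← pullback.condition_assoc])
  rw [← cancel_epi p, MonObj.comp_mul, MonObj.comp_mul, ← Category.assoc, ← Category.assoc, ← gp_gaFn (p ≫ x₁),
    ← gp_gaFn (p ≫ y₁)]
  exact commute_of_all hP (inD_all_of_all hP h) e _ _

include hP hnc in
/-- Over an algebraically closed field the locus is the complement of one value. -/
theorem exists_field_q {K : Type u} [Field K] [IsAlgClosed K] (q : Spec (CommRingCat.of K) ⟶ S) :
    ∃ Q : K, Q ≠ 0 ∧ (∀ v : K, InD i pp pm (cst q v) ↔ 1 + Q * v ≠ 0) ∧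
      ∀ (v f : K) (C : Over.mk q ⟶ T) (H : Γ((Over.mk q).left, ⊤)),
        Rel i pp pm (cst q v) 1 (cst q f) C H → f * (1 + Q * v) = 1 := by
  obtain ⟨r, hr⟩ := exists_bad hP hnc q
  have hr0 : r ≠ 0 := fun h0 => hr (by
    rw [h0]
    simpa only [cst, map_zero] using inD_zero (i := i) (pp := pp) (pm := pm) (Over.mk q))
  have hb : ∀ v : K, 1 + -r⁻¹ * v = 0 ↔ v = r := fun v => by
    constructor
    · intro h
      field_simp at h
      linear_combination -h
    · rintro rfl
      field_simp
      ring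
  refine ⟨-r⁻¹, neg_ne_zero.2 (inv_ne_zero hr0), fun v => ⟨fun hv h => hr ((hb v).1 h ▸ hv), fun hv => ?_⟩,
    fun v f C H h => ?_⟩
  · by_contra hbad
    exact hv ((hb v).2 (bad_unique hP q hbad hr))
  · obtain ⟨-, e⟩ := value_of_bad hP h hr
    field_simp
    linear_combination e

end Groth.Agent.CommFormLib
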