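import Groth.Agent.RankOneCellLib.GenRel

/-!
# The product of two root elements in a rank one cell

For a torus with two opposite root groups whose cell is open, the decomposition of `p₊(a) p₋(b)`.
-/

set_option autoImplicit false
set_option backward.isDefEq.respectTransparency false
set_option backward.isDefEq.respectTransparency.types false
set_option linter.style.haveILetI false
set_option linter.unusedSectionVars false

universe u

open CategoryTheory Limits MonoidalCategory CartesianMonoidalCategory MonObj GrpObj AlgebraicGeometry TopologicalSpace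

noncomputable section

namespace Groth.Agent.CommFormLib

open Groth.Agent.RankOneRelLib Groth.Agent.RankOneCellLib

variable {S : Scheme.{u}} {G T : Over S} [GrpObj G] [GrpObj T]

/-- A torus with two root groups of opposite weights, the weight being faithfully flat. -/
structure Pre (i : T ⟶ G) (α : T ⟶ Red.Gm S) (pp pm : Red.Ga S ⟶ G) : Prop where
  tor : Red.IsTorus T
  flat : Flat α.left
  surj : Surjective α.left
  hpp : ∀ (X : Over S) (t : X ⟶ T) (x : X ⟶ Red.Ga S), ∃ x' : X ⟶ Red.Ga S,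
      x' ≫ pp = (t ≫ i) * (x ≫ pp) * (t ≫ i)⁻¹ ∧ Red.gaFn x' = Red.gmFn (t ≫ α) * Red.gaFn x
  hpm : ∀ (X : Over S) (t : X ⟶ T) (y : X ⟶ Red.Ga S), ∃ y' : X ⟶ Red.Ga S,
      y' ≫ pm = (t ≫ i) * (y ≫ pm) * (t ≫ i)⁻¹ ∧ Red.gaFn y' * Red.gmFn (t ≫ α) = Red.gaFn y

variable {i : T ⟶ G} [IsMonHom i] {α : T ⟶ Red.Gm S} [IsMonHom α] {pp pm : Red.Ga S ⟶ G} [IsMonHom pp] [IsMonHom pm]

variable (i pp pm) in
/-- The product `p₊(a) p₋(b)` has the decomposition `(F, C, H)`. -/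
def Rel {X : Over S} (a b F : Γ(X.left, ⊤)) (C : X ⟶ T) (H : Γ(X.left, ⊤)) : Prop :=
  (gp F ≫ pm) * (C ≫ i) * (gp H ≫ pp) = (gp a ≫ pp) * (gp b ≫ pm)

variable (i pp pm) in
/-- The product `p₊(a) p₋(1)` lies in the cell. -/
def InD {X : Over S} (a : Γ(X.left, ⊤)) : Prop :=
  InCell i pp pm ((gp a ≫ pp) * (gp (1 : Γ(X.left, ⊤)) ≫ pm))

omit [GrpObj T] [IsMonHom i] in
theorem comp_root {H : Over S} (p : Red.Ga S ⟶ H) {X X' : Over S} (f : X' ⟶ X) (a : Γ(X.left, ⊤)) :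
    f ≫ gp a ≫ p = gp (f.left.appTop a) ≫ p := by
  rw [← Category.assoc, comp_gp]

theorem comp_pair {X X' : Over S} (f : X' ⟶ X) (a b : Γ(X.left, ⊤)) :
    f ≫ ((gp a ≫ pp) * (gp b ≫ pm)) = (gp (f.left.appTop a) ≫ pp) * (gp (f.left.appTop b) ≫ pm) := by
  rw [MonObj.comp_mul, comp_root, comp_root]

theorem Rel.comp {X X' : Over S} (f : X' ⟶ X) {a b F : Γ(X.left, ⊤)} {C : X ⟶ T} {H : Γ(X.left, ⊤)}
    (h : Rel i pp pm a b F C H) :
    Rel i pp pm (f.left.appTop a) (f.left.appTop b) (f.left.appTop F) (f ≫ C) (f.left.appTop H) := by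
  have e := congrArg (fun g => f ≫ g) h
  simp only [MonObj.comp_mul, comp_root] at e
  rw [← Category.assoc] at e
  exact e

theorem Rel.inCell {X : Over S} {a b F : Γ(X.left, ⊤)} {C : X ⟶ T} {H : Γ(X.left, ⊤)}
    (h : Rel i pp pm a b F C H) : InCell i pp pm ((gp a ≫ pp) * (gp b ≫ pm)) := by
  rw [← h]
  exact inCell_cell i pp pm _ _ _

theorem InD.comp {X X' : Over S} (f : X' ⟶ X) {a : Γ(X.left, ⊤)} (h : InD i pp pm a) :
    InD i pp pm (f.left.appTop a) := by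
  have e := inCell_comp i pp pm f h
  rwa [comp_pair, map_one] at e

theorem InD.of_cover {X X' : Over S} (f : X' ⟶ X) [Surjective f.left] {a : Γ(X.left, ⊤)}
    (h : InD i pp pm (f.left.appTop a)) : InD i pp pm a := by
  refine inCell_of_cover i pp pm f ?_
  rw [comp_pair, map_one]
  exact h

theorem inD_zero (X : Over S) : InD i pp pm (0 : Γ(X.left, ⊤)) := by
  have h := inCell_cell i pp pm (gp (1 : Γ(X.left, ⊤))) (1 : X ⟶ T) (gp 0)
  have e : gp (0 : Γ(X.left, ⊤)) ≫ pp = 1 := by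
    rw [show gp (0 : Γ(X.left, ⊤)) = 1 from GaPoints.gaFn_injective (by rw [gaFn_gp, GaPoints.gaFn_one]), MonObj.one_comp]
  rw [MonObj.one_comp, e, _root_.mul_one, _root_.mul_one] at h
  show InCell i pp pm ((gp (0 : Γ(X.left, ⊤)) ≫ pp) * (gp (1 : Γ(X.left, ⊤)) ≫ pm))
  rwa [e, _root_.one_mul]

theorem gp_zero_comp {H : Over S} [GrpObj H] (p : Red.Ga S ⟶ H) [IsMonHom p] (X : Over S) :
    gp (0 : Γ(X.left, ⊤)) ≫ p = 1 := by
  rw [show gp (0 : Γ(X.left, ⊤)) = 1 from GaPoints.gaFn_injective (by rw [gaFn_gp, GaPoints.gaFn_one]), MonObj.one_comp]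

theorem rel_zero (X : Over S) : Rel i pp pm (0 : Γ(X.left, ⊤)) 1 1 (1 : X ⟶ T) 0 := by
  simp only [Rel, gp_zero_comp, MonObj.one_comp, _root_.mul_one, _root_.one_mul]

variable [hΩ : IsOpenImmersion (cellMap i pp pm).left]

theorem exists_rel {X : Over S} {a b : Γ(X.left, ⊤)} (h : InCell i pp pm ((gp a ≫ pp) * (gp b ≫ pm))) :
    ∃ F C H, Rel i pp pm a b F C H := by
  obtain ⟨x, t, y, e⟩ := exists_of_inCell i pp pm h
  exact ⟨Red.gaFn x, t, Red.gaFn y, by rw [Rel, gp_gaFn, gp_gaFn, e]⟩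

theorem Rel.inj {X : Over S} {a b F F' : Γ(X.left, ⊤)} {C C' : X ⟶ T} {H H' : Γ(X.left, ⊤)}
    (h : Rel i pp pm a b F C H) (h' : Rel i pp pm a b F' C' H') : F = F' ∧ C = C' ∧ H = H' := by
  obtain ⟨e1, e2, e3⟩ := cell_inj i pp pm (h.trans h'.symm)
  exact ⟨by simpa [gaFn_gp] using congrArg Red.gaFn e1, e2, by simpa [gaFn_gp] using congrArg Red.gaFn e3⟩

section Conj

variable (hP : Pre i α pp pm)

include hP

theorem conjP {X : Over S} (t : X ⟶ T) (a : Γ(X.left, ⊤)) :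
    (t ≫ i) * (gp a ≫ pp) = (gp ((alH α X t : Γ(X.left, ⊤)) * a) ≫ pp) * (t ≫ i) := by
  obtain ⟨x', h, hx'⟩ := hP.hpp X t (gp a)
  rw [gaFn_gp] at hx'
  rw [show gp ((alH α X t : Γ(X.left, ⊤)) * a) = x' from GaPoints.gaFn_injective (by
    rw [gaFn_gp, hx']; rfl), h, inv_mul_cancel_right]

theorem conjM {X : Over S} (t : X ⟶ T) (a : Γ(X.left, ⊤)) :
    (t ≫ i) * (gp a ≫ pm) = (gp ((alH α X t)⁻¹.1 * a) ≫ pm) * (t ≫ i) := by
  obtain ⟨x', h, hx'⟩ := hP.hpm X t (gp a)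
  rw [gaFn_gp] at hx'
  rw [show gp ((alH α X t)⁻¹.1 * a) = x' from GaPoints.gaFn_injective (by
    rw [gaFn_gp, ← hx']
    show (alH α X t)⁻¹.1 * (Red.gaFn x' * (alH α X t : Γ(X.left, ⊤))) = _
    linear_combination Red.gaFn x' * Units.inv_mul (alH α X t)), h, inv_mul_cancel_right]

theorem torus_comm {X : Over S} (s t : X ⟶ T) : (s ≫ i) * (t ≫ i) = (t ≫ i) * (s ≫ i) := by
  rw [← MonObj.mul_comp, ← MonObj.mul_comp, pts_comm_of_isTorus hP.tor]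

theorem conj_dec {X : Over S} (s t : X ⟶ T) (a b : Γ(X.left, ⊤)) :
    (s ≫ i) * ((gp a ≫ pm) * (t ≫ i) * (gp b ≫ pp)) * (s ≫ i)⁻¹ =
      (gp ((alH α X s)⁻¹.1 * a) ≫ pm) * (t ≫ i) * (gp ((alH α X s : Γ(X.left, ⊤)) * b) ≫ pp) := by
  calc _ = ((s ≫ i) * (gp a ≫ pm)) * (t ≫ i) * (gp b ≫ pp) * (s ≫ i)⁻¹ := by group
    _ = (gp ((alH α X s)⁻¹.1 * a) ≫ pm) * ((s ≫ i) * (t ≫ i)) * (gp b ≫ pp) * (s ≫ i)⁻¹ := by
        rw [conjM hP]; group
    _ = (gp ((alH α X s)⁻¹.1 * a) ≫ pm) * (t ≫ i) * ((s ≫ i) * (gp b ≫ pp)) * (s ≫ i)⁻¹ := by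
        rw [torus_comm hP s t]; group
    _ = _ := by rw [conjP hP]; group

theorem inCell_conj {X : Over S} (s : X ⟶ T) {g : X ⟶ G} (h : InCell i pp pm g) :
    InCell i pp pm ((s ≫ i) * g * (s ≫ i)⁻¹) := by
  obtain ⟨x, t, y, e⟩ := exists_of_inCell i pp pm h
  rw [← e, ← gp_gaFn x, ← gp_gaFn y, conj_dec hP]
  exact inCell_cell i pp pm _ _ _

theorem inCell_right {X : Over S} (t : X ⟶ T) (b : Γ(X.left, ⊤)) {g : X ⟶ G} (h : InCell i pp pm g) :
    InCell i pp pm (g * (t ≫ i) * (gp b ≫ pp)) := by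
  obtain ⟨x, s, y, e⟩ := exists_of_inCell i pp pm h
  have k : (y ≫ pp) * (t ≫ i) = (t ≫ i) * (gp ((alH α X t)⁻¹.1 * Red.gaFn y) ≫ pp) := by
    rw [conjP hP, ← _root_.mul_assoc (alH α X t : Γ(X.left, ⊤)), Units.mul_inv, _root_.one_mul, gp_gaFn]
  have e' : g * (t ≫ i) * (gp b ≫ pp) = (x ≫ pm) * ((s * t) ≫ i) * (gp ((alH α X t)⁻¹.1 * Red.gaFn y + b) ≫ pp) := by
    rw [← e, MonObj.mul_comp, ← gp_add, MonObj.mul_comp]
    simp only [_root_.mul_assoc]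
    rw [← _root_.mul_assoc (y ≫ pp), k]
    simp only [_root_.mul_assoc]
  rw [e']
  exact inCell_cell i pp pm _ _ _

theorem inCell_right_iff {X : Over S} (t : X ⟶ T) (b : Γ(X.left, ⊤)) (g : X ⟶ G) :
    InCell i pp pm (g * (t ≫ i) * (gp b ≫ pp)) ↔ InCell i pp pm g := by
  refine ⟨fun h => ?_, inCell_right hP t b⟩
  have h' := inCell_right hP t⁻¹ 0 (inCell_right hP 1 (-b) h)
  simp only [gp_zero_comp, MonObj.one_comp, _root_.mul_one, GrpObj.inv_comp] at h'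
  rwa [_root_.mul_assoc (g * (t ≫ i)), ← MonObj.mul_comp, gp_add, add_neg_cancel, gp_zero_comp, _root_.mul_one,
    mul_inv_cancel_right] at h'

/-- Rescaling by the torus. -/
theorem scale {X : Over S} (x : Γ(X.left, ⊤)) (c : Γ(X.left, ⊤)ˣ) :
    (InCell i pp pm ((gp x ≫ pp) * (gp (c : Γ(X.left, ⊤)) ≫ pm)) ↔ InD i pp pm (x * c.1)) ∧
      ∀ F C H, Rel i pp pm (x * c.1) 1 F C H → Rel i pp pm x c.1 (c.1 * F) C (c⁻¹.1 * H) := by
  obtain ⟨X', f, τ, hf, hfs, hτ⟩ := exists_cover_char α hP.flat hP.surj c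
  haveI := hf
  haveI := hfs
  let c' := Units.map f.left.appTop.hom.toMonoidHom c
  have hs : alH α X' τ⁻¹ = c'⁻¹ := by
    rw [map_inv]
    congr 1
    exact Units.ext hτ
  have key : f ≫ ((gp x ≫ pp) * (gp (c : Γ(X.left, ⊤)) ≫ pm)) =
      (τ⁻¹ ≫ i) * (f ≫ ((gp (x * c.1) ≫ pp) * (gp (1 : Γ(X.left, ⊤)) ≫ pm))) * (τ⁻¹ ≫ i)⁻¹ := by
    rw [comp_pair, comp_pair, map_mul, map_one]
    have h1 := conjP hP τ⁻¹ (f.left.appTop x * (c' : Γ(X'.left, ⊤)))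
    have h2 := conjM hP τ⁻¹ (1 : Γ(X'.left, ⊤))
    rw [hs, mul_left_comm, Units.inv_mul, _root_.mul_one] at h1
    rw [hs, _root_.inv_inv, _root_.mul_one] at h2
    calc _ = (gp (f.left.appTop x) ≫ pp) * ((gp (c' : Γ(X'.left, ⊤)) ≫ pm) * (τ⁻¹ ≫ i)) * (τ⁻¹ ≫ i)⁻¹ := by
          rw [_root_.mul_assoc (gp (f.left.appTop x) ≫ pp), mul_inv_cancel_right]; rfl
      _ = _ := by
          rw [← h2, ← _root_.mul_assoc, ← h1]
          simp only [_root_.mul_assoc]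
          rfl
  refine ⟨⟨fun h => ?_, fun h => ?_⟩, fun F C H h => ?_⟩
  · refine InD.of_cover f ?_
    have h' := inCell_conj hP τ (inCell_comp i pp pm f h)
    rw [key, GrpObj.inv_comp, _root_.inv_inv] at h'
    have e : f ≫ ((gp (x * c.1) ≫ pp) * (gp (1 : Γ(X.left, ⊤)) ≫ pm)) = _ := comp_pair f (x * c.1) 1
    rw [map_one] at e
    show InCell i pp pm _
    rw [← e]
    convert h' using 2
    group
  · refine inCell_of_cover i pp pm f ?_
    rw [key]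
    exact inCell_conj hP _ (inCell_comp i pp pm f h)
  · have e := h
    unfold Rel at e ⊢
    rw [← cancel_epi f, key, ← e]
    simp only [MonObj.comp_mul, comp_root, ← Category.assoc f C i]
    rw [conj_dec hP, hs, _root_.inv_inv, map_mul, map_mul]
    rfl

/-- The decomposition for a sum on the left. -/
theorem rel_add {X : Over S} {u v H : Γ(X.left, ⊤)} {F : Γ(X.left, ⊤)ˣ} {C : X ⟶ T}
    (hv : Rel i pp pm v 1 (F : Γ(X.left, ⊤)) C H) :
    (InD i pp pm (u + v) ↔ InD i pp pm (u * F.1)) ∧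
      ∀ F' C' H', Rel i pp pm (u * F.1) 1 F' C' H' →
        Rel i pp pm (u + v) 1 (F.1 * F') (C' * C) ((alH α X C)⁻¹.1 * (F⁻¹.1 * H') + H) := by
  have e : (gp (u + v) ≫ pp) * (gp (1 : Γ(X.left, ⊤)) ≫ pm) =
      (gp u ≫ pp) * (gp (F : Γ(X.left, ⊤)) ≫ pm) * (C ≫ i) * (gp H ≫ pp) := by
    rw [← gp_add, MonObj.mul_comp, _root_.mul_assoc, ← hv]
    simp only [_root_.mul_assoc]
  refine ⟨?_, fun F' C' H' h => ?_⟩
  · rw [InD, e, inCell_right_iff hP, (scale hP u F).1]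
  · have h' := (scale hP u F).2 _ _ _ h
    unfold Rel at h' ⊢
    rw [e, ← h', ← gp_add, MonObj.mul_comp (gp _) (gp H) pp, MonObj.mul_comp C' C i]
    have k : (gp (F⁻¹.1 * H') ≫ pp) * (C ≫ i) = (C ≫ i) * (gp ((alH α X C)⁻¹.1 * (F⁻¹.1 * H')) ≫ pp) := by
      rw [conjP hP, ← _root_.mul_assoc (alH α X C : Γ(X.left, ⊤)), Units.mul_inv, _root_.one_mul]
    simp only [_root_.mul_assoc]
    rw [← _root_.mul_assoc (gp (F⁻¹.1 * H') ≫ pp), k]
    simp only [_root_.mul_assoc]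

/-- The decomposition for a sum on the right. -/
theorem rel_addM {X : Over S} {a F H : Γ(X.left, ⊤)} {C : X ⟶ T} (h : Rel i pp pm a 1 F C H) (c : Γ(X.left, ⊤)ˣ)
    {F' H' : Γ(X.left, ⊤)} {C' : X ⟶ T} (h' : Rel i pp pm (H * c.1) 1 F' C' H') :
    Rel i pp pm a (1 + (c : Γ(X.left, ⊤))) (F + (alH α X C)⁻¹.1 * (c.1 * F')) (C * C') (c⁻¹.1 * H') := by
  have h'' := (scale hP H c).2 _ _ _ h'
  unfold Rel at h h'' ⊢
  rw [← gp_add, ← gp_add, MonObj.mul_comp, MonObj.mul_comp, MonObj.mul_comp]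
  have k := conjM hP C ((c : Γ(X.left, ⊤)) * F')
  symm
  calc (gp a ≫ pp) * ((gp (1 : Γ(X.left, ⊤)) ≫ pm) * (gp (c : Γ(X.left, ⊤)) ≫ pm))
      = (gp F ≫ pm) * (C ≫ i) * ((gp H ≫ pp) * (gp (c : Γ(X.left, ⊤)) ≫ pm)) := by
        rw [← _root_.mul_assoc, ← h]; simp only [_root_.mul_assoc]
    _ = (gp F ≫ pm) * ((C ≫ i) * (gp ((c : Γ(X.left, ⊤)) * F') ≫ pm)) * (C' ≫ i) * (gp (c⁻¹.1 * H') ≫ pp) := by
        rw [← h'']; simp only [_root_.mul_assoc]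
    _ = _ := by rw [k]; simp only [_root_.mul_assoc]

end Conj

end Groth.Agent.CommFormLib
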