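import Groth.Agent.CommFormLib.Geom

/-!
# The locus of the cell on the line over an algebraically closed field
-/

set_option autoImplicit false
set_option backward.isDefEq.respectTransparency false
set_option backward.isDefEq.respectTransparency.types false
set_option linter.style.haveILetI false
set_option linter.unusedSectionVars false

universe u

open CategoryTheory Limits MonoidalCategory CartesianMonoidalCategory MonObj GrpObj AlgebraicGeometry TopologicalSpace

noncomputable section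

namespace Groth.Agent.CommFormLib

open Groth.Agent.RankOneRelLib Groth.Agent.RankOneCellLib
open Groth.Agent.GaPoints (ringMap ringMap_injective ringMap_comp_SpecMap exists_ringMap)

variable {S : Scheme.{u}}

/-- A function gives a point of the affine line. -/
theorem exists_line {A : CommRingCat.{u}} (q : Spec A ⟶ S) {X : Over S} (e : X ⟶ Over.mk q) (a : Γ(X.left, ⊤)) :
    ∃ f : X ⟶ line q, ∀ p : Polynomial A,
      f.left.appTop (cst (Spec.map (CommRingCat.ofHom (Polynomial.C : A →+* Polynomial A)) ≫ q)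
        (A := CommRingCat.of (Polynomial A)) p) = p.eval₂ (ringMap e.left) a := by
  obtain ⟨f, hf, -⟩ := exists_over q (CommRingCat.ofHom (Polynomial.C : A →+* Polynomial A)) e
    (Polynomial.eval₂RingHom (ringMap e.left) a) (RingHom.ext fun r => Polynomial.eval₂_C _ _)
  exact ⟨f, fun p => congrArg (fun ψ : Polynomial A →+* Γ(X.left, ⊤) => ψ p) hf⟩

/-- The coordinate on the affine line. -/
abbrev crd {A : CommRingCat.{u}} (q : Spec A ⟶ S) : Γ((line q).left, ⊤) :=
  cst (Spec.map (CommRingCat.ofHom (Polynomial.C : A →+* Polynomial A)) ≫ q) (A := CommRingCat.of (Polynomial A))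
    Polynomial.X

variable {G T : Over S} [GrpObj G] [GrpObj T] {i : T ⟶ G} [IsMonHom i] {α : T ⟶ Red.Gm S} [IsMonHom α]
  {pp pm : Red.Ga S ⟶ G} [IsMonHom pp] [IsMonHom pm] [hΩ : IsOpenImmersion (cellMap i pp pm).left]

/-- All but finitely many values lie in the locus. -/
theorem finite_not_inD {K : Type u} [Field K] (q : Spec (CommRingCat.of K) ⟶ S) :
    {a : K | ¬ InD i pp pm (cst q a)}.Finite := by
  let L := line q
  let g : L ⟶ G := (gp (crd q) ≫ pp) * (gp (1 : Γ(L.left, ⊤)) ≫ pm)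
  let U : G.left.Opens := (cellMap i pp pm).left.opensRange
  let W : L.left.Opens := g.left ⁻¹ᵁ U
  have hev : ∀ (f : Over.mk q ⟶ L) (a : K), (∀ p : Polynomial K, f.left.appTop
      (cst (Spec.map (CommRingCat.ofHom (Polynomial.C : K →+* Polynomial K)) ≫ q) (A := CommRingCat.of (Polynomial K)) p) =
        p.eval₂ (ringMap (Y := (Over.mk q).left) (𝟙 (Over.mk q) : Over.mk q ⟶ Over.mk q).left) (cst q a)) →
      f ≫ g = (gp (cst q a) ≫ pp) * (gp (1 : Γ((Over.mk q).left, ⊤)) ≫ pm) ∧
      ∀ p : Polynomial K, f.left.appTop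
        (cst (Spec.map (CommRingCat.ofHom (Polynomial.C : K →+* Polynomial K)) ≫ q) (A := CommRingCat.of (Polynomial K)) p) =
        cst q (p.eval a) := fun f a hf => by
    have hp : ∀ p : Polynomial K, f.left.appTop
        (cst (Spec.map (CommRingCat.ofHom (Polynomial.C : K →+* Polynomial K)) ≫ q) (A := CommRingCat.of (Polynomial K)) p) =
        cst q (p.eval a) := fun p => by
      rw [hf]
      exact Polynomial.eval₂_at_apply (ringMap (Y := (Over.mk q).left) (𝟙 (Over.mk q) : Over.mk q ⟶ Over.mk q).left) a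
    refine ⟨?_, hp⟩
    rw [comp_pair, map_one, hp, Polynomial.eval_X]
  obtain ⟨f₀, hf₀⟩ := exists_line q (𝟙 _) (cst q (0 : K))
  obtain ⟨hg₀, hp₀⟩ := hev f₀ 0 hf₀
  have hpt : f₀.left.base (IsLocalRing.closedPoint K) ∈ W := by
    have h := inD_zero (i := i) (pp := pp) (pm := pm) (Over.mk q)
    rw [show (0 : Γ((Over.mk q).left, ⊤)) = cst q (0 : K) from (map_zero _).symm] at h
    unfold InD at h
    rw [← hg₀] at h
    exact h ⟨IsLocalRing.closedPoint K, rfl⟩
  haveI : IsAffine L.left := inferInstanceAs (IsAffine (Spec (CommRingCat.of (Polynomial K))))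
  obtain ⟨hh, hhW, hh0⟩ := (isAffineOpen_top L.left).exists_basicOpen_le (⟨_, hpt⟩ : W) trivial
  obtain ⟨h, rfl⟩ := cst_surjective (Spec.map (CommRingCat.ofHom (Polynomial.C : K →+* Polynomial K)) ≫ q)
    (A := CommRingCat.of (Polynomial K)) hh
  have hne : h ≠ 0 := fun h0 => by
    rw [h0] at hh0
    have e : f₀.left.base (IsLocalRing.closedPoint K) ∈ L.left.basicOpen (0 : Γ(L.left, ⊤)) := by
      rw [← map_zero (Scheme.ΓSpecIso (CommRingCat.of (Polynomial K))).inv.hom]
      exact hh0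
    rw [Scheme.basicOpen_zero] at e
    exact e
  refine (Polynomial.finite_setOfPred_isRoot hne).subset fun a ha => ?_
  by_contra hr
  refine ha ?_
  obtain ⟨f, hf⟩ := exists_line q (𝟙 _) (cst q a)
  obtain ⟨hg, hp⟩ := hev f a hf
  show InCell i pp pm _
  rw [← hg]
  rintro _ ⟨z, rfl⟩
  refine hhW ?_
  show z ∈ f.left ⁻¹ᵁ L.left.basicOpen _
  rw [Scheme.preimage_basicOpen_top, Scheme.basicOpen_of_isUnit _ (by
    rw [hp]
    exact (isUnit_iff_ne_zero.2 hr).map (Scheme.ΓSpecIso (CommRingCat.of K)).inv.hom)]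
  trivial

variable (hP : Pre i α pp pm)
include hP

theorem exists_inD_not_mem {K : Type u} [Field K] [Infinite K] (q : Spec (CommRingCat.of K) ⟶ S) {s : Set K}
    (hs : s.Finite) : ∃ v : K, InD i pp pm (cst q v) ∧ v ∉ s := by
  obtain ⟨v, hv⟩ := ((finite_not_inD (i := i) (pp := pp) (pm := pm) q).union hs).exists_notMem
  simp only [Set.mem_union, Set.mem_setOf_eq, not_or, not_not] at hv
  exact ⟨v, hv.1, hv.2⟩

theorem shift_bad {K : Type u} [Field K] {q : Spec (CommRingCat.of K) ⟶ S} {v f : K} {C : Over.mk q ⟶ T}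
    {H : Γ((Over.mk q).left, ⊤)} (hv : Rel i pp pm (cst q v) 1 (cst q f) C H) {r : K}
    (hr : ¬ InD i pp pm (cst q r)) : f ≠ 0 ∧ ¬ InD i pp pm (cst q (v + f⁻¹ * r)) := by
  have hu := isUnit_F hP hv
  have hf : f ≠ 0 := fun h0 => ne_zero_of_isUnit hu (by rw [h0]; exact map_zero _)
  refine ⟨hf, fun h => hr ?_⟩
  obtain ⟨F, hF⟩ := hu
  rw [← hF] at hv
  have e := (rel_add hP (u := cst q (f⁻¹ * r)) hv).1
  rw [show cst q (f⁻¹ * r) + cst q v = cst q (v + f⁻¹ * r) by rw [add_comm v]; exact (map_add _ _ _).symm,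
    show cst q (f⁻¹ * r) * F.1 = cst q r by
      rw [hF]
      exact ((map_mul _ _ _).symm.trans (congrArg (cst q) (by field_simp)))] at e
  exact e.1 h

theorem bad_unique {K : Type u} [Field K] [Infinite K] (q : Spec (CommRingCat.of K) ⟶ S) {r r' : K}
    (hr : ¬ InD i pp pm (cst q r)) (hr' : ¬ InD i pp pm (cst q r')) : r = r' := by
  by_contra hne
  let R := {a : K | ¬ InD i pp pm (cst q a)}
  have hR : R.Finite := finite_not_inD q
  let Φ : K × K → K := fun p => p.1 - (p.1 - p.2) / (r - r') * r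
  obtain ⟨v, hv, hv'⟩ := exists_inD_not_mem hP q ((hR.prod hR).image Φ)
  obtain ⟨F, C, H, h⟩ := exists_rel hv
  obtain ⟨f, rfl⟩ := cst_surjective q F
  obtain ⟨hf, h1⟩ := shift_bad hP h hr
  obtain ⟨-, h2⟩ := shift_bad hP h hr'
  refine hv' ⟨(v + f⁻¹ * r, v + f⁻¹ * r'), ⟨h1, h2⟩, ?_⟩
  show v + f⁻¹ * r - (v + f⁻¹ * r - (v + f⁻¹ * r')) / (r - r') * r = v
  have : r - r' ≠ 0 := sub_ne_zero.2 hne
  field_simp
  ring

theorem value_of_bad {K : Type u} [Field K] [Infinite K] {q : Spec (CommRingCat.of K) ⟶ S} {v f : K}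
    {C : Over.mk q ⟶ T} {H : Γ((Over.mk q).left, ⊤)} (hv : Rel i pp pm (cst q v) 1 (cst q f) C H) {r : K}
    (hr : ¬ InD i pp pm (cst q r)) : r ≠ 0 ∧ f * (r - v) = r := by
  obtain ⟨hf, h1⟩ := shift_bad hP hv hr
  refine ⟨fun h0 => hr (by rw [h0]; simpa only [cst, map_zero] using inD_zero (i := i) (pp := pp) (pm := pm) (Over.mk q)), ?_⟩
  have e := bad_unique hP q h1 hr
  field_simp at e
  linear_combination -e

end Groth.Agent.CommFormLib
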