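import Groth.Agent.CommFormLib.Slope

/-!
# The commutation formula
-/

set_option autoImplicit false
set_option backward.isDefEq.respectTransparency false
set_option backward.isDefEq.respectTransparency.types false
set_option linter.style.haveILetI false
set_option linter.unusedSectionVars false

universe u

open CategoryTheory Limits MonoidalCategory CartesianMonoidalCategory MonObj GrpObj AlgebraicGeometry TopologicalSpace

noncomputable section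

namespace Groth.Agent.CommFormLib

open Groth.Agent.RankOneRelLib Groth.Agent.RankOneCellLib
open Groth.Agent.GaPoints (ringMap ringMap_injective ringMap_comp_SpecMap exists_ringMap)

variable {S : Scheme.{u}}

/-- Fppf-locally a function avoids four prescribed values. -/
theorem exists_four (X : Over S) (a b : Γ(X.left, ⊤)) :
    ∃ (X' : Over S) (f : X' ⟶ X), Epi f ∧ ∃ v : Γ(X'.left, ⊤), IsUnit v ∧ IsUnit (1 + v) ∧
      IsUnit (1 + f.left.appTop a * v) ∧ (IsUnit b → IsUnit (f.left.appTop b - v)) := by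
  let Z : Over S := Red.Ga S ⊗ X
  let v₀ : Γ(Z.left, ⊤) := Red.gaFn (fst (Red.Ga S) X)
  let p : Z ⟶ X := snd _ _
  let F : Γ(Z.left, ⊤) := v₀ * (1 + v₀) * (1 + p.left.appTop a * v₀) * (p.left.appTop b - v₀)
  let W : Z.left.Opens := Z.left.basicOpen F
  let X' : Over S := Over.mk (W.ι ≫ Z.hom)
  let ιW : X' ⟶ Z := Over.homMk W.ι
  let f : X' ⟶ X := ιW ≫ p
  haveI : Flat (Red.Ga S).hom := GmTorsor.flat_Ga
  haveI : Flat p.left := MorphismProperty.pullback_snd _ _ inferInstance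
  haveI : Flat f.left := by
    show Flat (W.ι ≫ p.left)
    infer_instance
  haveI hs : Surjective f.left := by
    refine ⟨fun x => ?_⟩
    obtain ⟨K, _, _, P, φ, y, z, hz⟩ := exists_geomPt X x
    set a₀ := φ.symm (y.left.appTop a) with ha₀
    set b₀ := φ.symm (y.left.appTop b) with hb₀
    obtain ⟨c, hc⟩ := Set.Finite.exists_notMem (s := ({0, -1, -a₀⁻¹, b₀} : Set K)) (Set.toFinite _)
    simp only [Set.mem_insert_iff, Set.mem_singleton_iff, not_or] at hc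
    have hne : c * (1 + c) * (1 + a₀ * c) * (b₀ - c) ≠ 0 := by
      refine mul_ne_zero (mul_ne_zero (mul_ne_zero hc.1 fun h => hc.2.1 (by linear_combination h)) fun h => hc.2.2.1 ?_)
        (sub_ne_zero.2 (Ne.symm hc.2.2.2))
      have ha : a₀ ≠ 0 := fun h' => by simp [h'] at h
      field_simp
      linear_combination h
    let π : P ⟶ Z := lift (gp (φ c)) y
    have hv : π.left.appTop v₀ = φ c := by
      rw [← GaPoints.gaFn_comp, lift_fst, gaFn_gp]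
    have hp : ∀ r, π.left.appTop (p.left.appTop r) = y.left.appTop r := fun r => by
      have : π ≫ p = y := lift_snd _ _
      rw [← this]
      rfl
    have hu : IsUnit (π.left.appTop F) := by
      simp only [F, map_mul, map_sub, map_add, map_one, hv, hp]
      have h := (isUnit_iff_ne_zero.2 hne).map φ
      simpa only [map_mul, map_sub, map_add, map_one, ha₀, hb₀, RingEquiv.apply_symm_apply] using h
    have hm : π.left.base z ∈ W := by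
      show z ∈ π.left ⁻¹ᵁ Z.left.basicOpen F
      rw [Scheme.preimage_basicOpen_top, Scheme.basicOpen_of_isUnit _ hu]
      trivial
    refine ⟨⟨π.left.base z, hm⟩, ?_⟩
    show (π ≫ p).left.base z = x
    rw [lift_snd]
    exact hz
  haveI : Epi f.left := Flat.epi_of_flat_of_surjective f.left
  have hF : IsUnit (W.ι.appTop F) := isUnit_of_forall_mem_basicOpen _ fun w => by
    rw [← Scheme.preimage_basicOpen_top]
    exact w.2
  simp only [F, map_mul, IsUnit.mul_iff, map_sub, map_add, map_one] at hF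
  exact ⟨X', f, (Over.forget S).epi_of_epi_map this, W.ι.appTop v₀, hF.1.1.1, hF.1.1.2, hF.1.2, fun _ => hF.2⟩

variable {G T : Over S} [GrpObj G] [GrpObj T]
  {i : T ⟶ G} [IsMonHom i] {α : T ⟶ Red.Gm S}
  [IsMonHom α] {pp pm : Red.Ga S ⟶ G} [IsMonHom pp] [IsMonHom pm]
  [hΩ : IsOpenImmersion (cellMap i pp pm).left] (hP : Pre i α pp pm) (hnc : NC pp pm)
  {k : 𝟙_ (Over S) ⟶ Red.Gm S}
  (hk : ∀ (X : Over S) (v F H : Γ(X.left, ⊤)) (C : X ⟶ T),
    IsUnit v → Rel i pp pm v 1 F C H → F * (1 + kv k X * v) = 1)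

include hP hnc hk

/-- The equation coming from a sum on the right. -/
theorem eq_addM {X : Over S} {u F H : Γ(X.left, ⊤)} {C : X ⟶ T} (h : Rel i pp pm u 1 F C H) {c : Γ(X.left, ⊤)}
    (hc : IsUnit c) (hc1 : IsUnit (1 + c)) (hc2 : IsUnit (1 + kv k X * H * c)) :
    (alH α X C : Γ(X.left, ⊤)) * (1 + kv k X * H * c) =
      (1 + kv k X * u) * ((1 + kv k X * u) + kv k X * u * c) := by
  obtain ⟨cu, rfl⟩ := hc
  obtain ⟨du, hdu⟩ := hc1
  have hd : InD i pp pm (H * cu.1) := (inD_iff hP hnc hk _).2 (by rwa [← _root_.mul_assoc])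
  obtain ⟨F', C', H', h'⟩ := exists_rel hd
  have hsum := rel_addM hP h cu h'
  rw [← hdu] at hsum
  obtain ⟨F'', C'', H'', h''⟩ := exists_rel ((scale hP u du).1.1 hsum.inCell)
  obtain ⟨e, -, -⟩ := ((scale hP u du).2 _ _ _ h'').inj hsum
  have s := rel_F hP hnc hk h
  have s' := rel_F hP hnc hk h'
  have s'' := rel_F hP hnc hk h''
  rw [hdu] at e s''
  obtain ⟨gu, hgu⟩ : IsUnit (1 + kv k X * u) := (inD_iff hP hnc hk u).1 h.inCell
  set a := alH α X C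
  refine cu.isUnit.mul_left_cancel ?_
  linear_combination
    (a.1 * (1 + kv k X * u) * (1 + kv k X * (u * (1 + cu.1))) * (1 + kv k X * (H * cu.1))) * e -
    (a.1 * (1 + kv k X * u) * (1 + kv k X * (H * cu.1)) * (1 + cu.1)) * s'' +
    (a.1 * (1 + kv k X * (u * (1 + cu.1))) * (1 + kv k X * (H * cu.1))) * s +
    (cu.1 * (1 + kv k X * u) * (1 + kv k X * (u * (1 + cu.1))) * (a.1 * a⁻¹.1)) * s' +
    (cu.1 * (1 + kv k X * u) * (1 + kv k X * (u * (1 + cu.1)))) * Units.mul_inv a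

/-- The root value of the torus component and the second root component. -/
theorem rel_C_H {X : Over S} {u F H : Γ(X.left, ⊤)} {C : X ⟶ T} (h : Rel i pp pm u 1 F C H) :
    (alH α X C : Γ(X.left, ⊤)) = (1 + kv k X * u) ^ 2 ∧ H * (1 + kv k X * u) = u := by
  obtain ⟨X₁, f₁, hf₁, c₁, hc₁, hc₁', hc₁'', -⟩ := exists_four X (kv k X * H) 0
  obtain ⟨X₂, f₂, hf₂, c₂, hc₂, hc₂', hc₂'', hsub⟩ := exists_four X₁ (f₁.left.appTop (kv k X * H)) c₁
  haveI := hf₁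
  haveI := hf₂
  let f := f₂ ≫ f₁
  haveI : Epi f := epi_comp _ _
  have hh := h.comp f
  rw [map_one] at hh
  set u' := f.left.appTop u
  set H' := f.left.appTop H
  have hkH : f₂.left.appTop (f₁.left.appTop (kv k X * H)) = kv k X₂ * H' := by
    rw [← appTop_comp, map_mul, kv_comp]
  have e1 := eq_addM hP hnc hk hh (hc₁.map f₂.left.appTop.hom)
    (by simpa only [map_add, map_one] using hc₁'.map f₂.left.appTop.hom)
    (by
      have := hc₁''.map f₂.left.appTop.hom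
      rwa [map_add, map_one, map_mul, hkH] at this)
  have e2 := eq_addM hP hnc hk hh hc₂ hc₂' (by rwa [hkH] at hc₂'')
  set a := (alH α X₂ (f ≫ C) : Γ(X₂.left, ⊤))
  obtain ⟨ku, hku⟩ := isUnit_kv k X₂
  have A : a * (kv k X₂ * H') = (1 + kv k X₂ * u') * (kv k X₂ * u') :=
    (hsub hc₁).mul_left_cancel (by linear_combination e1 - e2)
  have B : a = (1 + kv k X₂ * u') ^ 2 := by linear_combination e2 - c₂ * A
  have hA : H' * (1 + kv k X₂ * u') = u' := by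
    have hg : IsUnit (1 + kv k X₂ * u') := (inD_iff hP hnc hk u').1 hh.inCell
    refine (hg.mul (isUnit_kv k X₂)).mul_left_cancel ?_
    rw [B] at A
    linear_combination A
  have ha : f.left.appTop (alH α X C : Γ(X.left, ⊤)) = a := by
    show f.left.appTop (Red.gmFn (C ≫ α)) = Red.gmFn ((f ≫ C) ≫ α)
    rw [Category.assoc, GmPts.gmFn_comp f]
  have inj : ∀ {x y : Γ(X.left, ⊤)}, f.left.appTop x = f.left.appTop y → x = y := fun {x y} e => by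
    have e' : f ≫ gp x = f ≫ gp y := by rw [comp_gp, comp_gp, e]
    simpa [gaFn_gp] using congrArg Red.gaFn ((cancel_epi f).1 e')
  exact ⟨inj (by rw [ha, map_pow, map_add, map_one, map_mul, kv_comp]; exact B),
    inj (by rw [map_mul, map_add, map_one, map_mul, kv_comp]; exact hA)⟩

/-- The coroot: the torus component as a function of the invariant. -/
theorem exists_coroot : ∃ av : Red.Gm S ⟶ T, IsMonHom av ∧ av ≫ α = (𝟙 (Red.Gm S)) ^ 2 ∧
    ∀ (X : Over S) (u : Γ(X.left, ⊤)) (ζ : Γ(X.left, ⊤)ˣ), ζ.1 = 1 + kv k X * u →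
      Rel i pp pm u 1 ζ⁻¹.1 (GmPts.ptOfUnit ζ ≫ av) (ζ⁻¹.1 * u) := by
  let U := Red.Gm S
  let z : Γ(U.left, ⊤)ˣ := GmPts.unitOfPt (𝟙 U)
  obtain ⟨ku, hku⟩ := isUnit_kv k U
  have hz : 1 + kv k U * (ku⁻¹.1 * (z.1 - 1)) = z.1 := by
    rw [← hku]; linear_combination (z.1 - 1) * Units.mul_inv ku
  obtain ⟨F₀, C₀, H₀, h₀⟩ := exists_rel ((inD_iff hP hnc hk (ku⁻¹.1 * (z.1 - 1))).2 (by rw [hz]; exact z.isUnit))
  have nat : ∀ (X : Over S) (u : Γ(X.left, ⊤)) (ζ : Γ(X.left, ⊤)ˣ), ζ.1 = 1 + kv k X * u →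
      Rel i pp pm u 1 ζ⁻¹.1 (GmPts.ptOfUnit ζ ≫ C₀) (ζ⁻¹.1 * u) := by
    intro X u ζ hζ
    have h := h₀.comp (GmPts.ptOfUnit ζ)
    have hzζ : (GmPts.ptOfUnit ζ).left.appTop z.1 = ζ.1 := by
      rw [GmPts.val_unitOfPt, ← GmPts.gmFn_comp, Category.comp_id, GmPts.gmFn_ptOfUnit]
    have hu : (GmPts.ptOfUnit ζ).left.appTop (ku⁻¹.1 * (z.1 - 1)) = u := by
      refine (isUnit_kv k X).mul_left_cancel ?_
      have e := congrArg (GmPts.ptOfUnit ζ).left.appTop hz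
      rw [map_add, map_one, map_mul, kv_comp, hzζ, hζ] at e
      exact add_left_cancel e
    rw [map_one, hu] at h
    have sF := rel_F hP hnc hk h
    have sH := (rel_C_H hP hnc hk h).2
    rw [← hζ] at sF sH
    rw [show (GmPts.ptOfUnit ζ).left.appTop F₀ = ζ⁻¹.1 by
        linear_combination ζ⁻¹.1 * sF - (GmPts.ptOfUnit ζ).left.appTop F₀ * Units.mul_inv ζ,
      show (GmPts.ptOfUnit ζ).left.appTop H₀ = ζ⁻¹.1 * u by
        linear_combination ζ⁻¹.1 * sH - (GmPts.ptOfUnit ζ).left.appTop H₀ * Units.mul_inv ζ] at h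
    exact h
  have hmul : ∀ (X : Over S) (t t' : X ⟶ U), (t * t') ≫ C₀ = (t ≫ C₀) * (t' ≫ C₀) := by
    intro X t t'
    obtain ⟨z1, rfl⟩ : ∃ w, GmPts.ptOfUnit w = t := ⟨_, GmPts.ptOfUnit_unitOfPt t⟩
    obtain ⟨z2, rfl⟩ : ∃ w, GmPts.ptOfUnit w = t' := ⟨_, GmPts.ptOfUnit_unitOfPt t'⟩
    obtain ⟨kx, hkx⟩ := isUnit_kv k X
    have hv : z2.1 = 1 + kv k X * (kx⁻¹.1 * (z2.1 - 1)) := by
      rw [← hkx]; linear_combination -(z2.1 - 1) * Units.mul_inv kx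
    have hu : z1.1 = 1 + kv k X * (z2.1 * (kx⁻¹.1 * (z1.1 - 1)) * z2⁻¹.1) := by
      rw [← hkx]
      linear_combination -(kx.1 * kx⁻¹.1 * (z1.1 - 1)) * Units.mul_inv z2 - (z1.1 - 1) * Units.mul_inv kx
    have r1 := nat X _ z2 hv
    have r2 := nat X _ z1 hu
    have r12 := (rel_add hP (u := z2.1 * (kx⁻¹.1 * (z1.1 - 1))) r1).2 _ _ _ r2
    have r3 := nat X (z2.1 * (kx⁻¹.1 * (z1.1 - 1)) + kx⁻¹.1 * (z2.1 - 1)) (z1 * z2) (by
      rw [Units.val_mul, ← hkx]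
      linear_combination -(z2.1 * (z1.1 - 1) + (z2.1 - 1)) * Units.mul_inv kx)
    obtain ⟨-, e, -⟩ := r3.inj r12
    rw [GmPts.ptOfUnit_mul] at e
    exact e
  refine ⟨C₀, ⟨?_, ?_⟩, ?_, nat⟩
  · have e := hmul (𝟙_ (Over S)) 1 1
    rw [_root_.one_mul, left_eq_mul] at e
    rwa [one_eq_one, one_eq_one]
  · rw [mul_eq_mul, mul_eq_mul, hmul, MonObj.comp_mul, tensorHom_fst, tensorHom_snd]
  · apply GmPts.gmFn_injective
    show Red.gmFn (C₀ ≫ α) = Red.gmFn ((𝟙 U) ^ 2)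
    refine (rel_C_H hP hnc hk h₀).1.trans ?_
    rw [hz, gmFn_pow, GmPts.val_unitOfPt]

variable {av : Red.Gm S ⟶ T} [IsMonHom av] (h2 : av ≫ α = (𝟙 (Red.Gm S)) ^ 2)
  (hav : ∀ (X : Over S) (u : Γ(X.left, ⊤)) (ζ : Γ(X.left, ⊤)ˣ), ζ.1 = 1 + kv k X * u →
      Rel i pp pm u 1 ζ⁻¹.1 (GmPts.ptOfUnit ζ ≫ av) (ζ⁻¹.1 * u))

include h2 hav

theorem rule_unit {X : Over S} (x : Γ(X.left, ⊤)) (b : Γ(X.left, ⊤)ˣ) (ζ : Γ(X.left, ⊤)ˣ)
    (hζ : ζ.1 = 1 + kv k X * x * b.1) :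
    Rel i pp pm x b.1 (ζ⁻¹.1 * b.1) (GmPts.ptOfUnit ζ ≫ av) (ζ⁻¹.1 * x) := by
  have h := (scale hP x b).2 _ _ _ (hav X (x * b.1) ζ (by rw [hζ, _root_.mul_assoc]))
  rwa [mul_comm b.1, show b⁻¹.1 * (ζ⁻¹.1 * (x * b.1)) = ζ⁻¹.1 * x by
    linear_combination ζ⁻¹.1 * x * Units.inv_mul b] at h

theorem rule {X : Over S} (x b : Γ(X.left, ⊤)) (ζ : Γ(X.left, ⊤)ˣ) (hζ : ζ.1 = 1 + kv k X * x * b) :
    Rel i pp pm x b (ζ⁻¹.1 * b) (GmPts.ptOfUnit ζ ≫ av) (ζ⁻¹.1 * x) := by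
  obtain ⟨X', f, hf, v, hv, hv', hw⟩ := exists_three X (kv k X * x) b
  haveI := hf
  unfold Rel
  rw [← cancel_epi f, MonObj.comp_mul, MonObj.comp_mul, MonObj.comp_mul, comp_root, comp_root, comp_root, comp_root,
    ← Category.assoc f (GmPts.ptOfUnit ζ ≫ av) i, ← Category.assoc f (GmPts.ptOfUnit ζ) av, map_mul, map_mul]
  set x' := f.left.appTop x
  set b' := f.left.appTop b
  obtain ⟨b1, rfl⟩ := hv
  obtain ⟨b2, hb2⟩ := hv'
  rw [map_mul, kv_comp] at hw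
  obtain ⟨z1, hz1⟩ := hw
  let ζ' := Units.map f.left.appTop.hom.toMonoidHom ζ
  rw [show f ≫ GmPts.ptOfUnit ζ = GmPts.ptOfUnit ζ' from GmPts.gmFn_injective (by
    show Red.gmFn _ = Red.gmFn _
    rw [GmPts.gmFn_comp, GmPts.gmFn_ptOfUnit, GmPts.gmFn_ptOfUnit]; rfl)]
  have hζ' : ζ'.1 = 1 + kv k X' * x' * b' := by
    show f.left.appTop ζ.1 = _
    rw [hζ, map_add, map_one, map_mul, map_mul, kv_comp]
  have r1 := rule_unit hP hnc hk h2 hav x' b1 z1 hz1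
  have r2 := rule_unit hP hnc hk h2 hav (z1⁻¹.1 * x') b2 (ζ' * z1⁻¹) (by
    rw [Units.val_mul, hζ', hb2]
    linear_combination Units.inv_mul z1 - z1⁻¹.1 * hz1)
  unfold Rel at r1 r2
  show (gp (ζ'⁻¹.1 * b') ≫ pm) * ((GmPts.ptOfUnit ζ' ≫ av) ≫ i) * (gp (ζ'⁻¹.1 * x') ≫ pp) =
    (gp x' ≫ pp) * (gp b' ≫ pm)
  have hal : alH α X' (GmPts.ptOfUnit z1 ≫ av) = z1 * z1 := alH_avH α av h2 X' z1
  have hi : ((ζ' * z1⁻¹)⁻¹ : Γ(X'.left, ⊤)ˣ).1 = ζ'⁻¹.1 * z1.1 := by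
    rw [_root_.mul_inv_rev, _root_.inv_inv, Units.val_mul, mul_comm]
  symm
  calc (gp x' ≫ pp) * (gp b' ≫ pm)
      = ((gp x' ≫ pp) * (gp b1.1 ≫ pm)) * (gp b2.1 ≫ pm) := by
        rw [_root_.mul_assoc (gp x' ≫ pp), ← MonObj.mul_comp, gp_add, hb2, add_sub_cancel]
    _ = (gp (z1⁻¹.1 * b1.1) ≫ pm) * ((GmPts.ptOfUnit z1 ≫ av) ≫ i) *
          ((gp (z1⁻¹.1 * x') ≫ pp) * (gp b2.1 ≫ pm)) := by
        rw [← r1]; simp only [_root_.mul_assoc]
    _ = (gp (z1⁻¹.1 * b1.1) ≫ pm) *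
          (((GmPts.ptOfUnit z1 ≫ av) ≫ i) * (gp ((ζ' * z1⁻¹)⁻¹.1 * b2.1) ≫ pm)) *
          ((GmPts.ptOfUnit (ζ' * z1⁻¹) ≫ av) ≫ i) * (gp ((ζ' * z1⁻¹)⁻¹.1 * (z1⁻¹.1 * x')) ≫ pp) := by
        rw [← r2]; simp only [_root_.mul_assoc]
    _ = (gp (z1⁻¹.1 * b1.1 + (z1 * z1)⁻¹.1 * ((ζ' * z1⁻¹)⁻¹.1 * b2.1)) ≫ pm) *
          ((GmPts.ptOfUnit (z1 * (ζ' * z1⁻¹)) ≫ av) ≫ i) * (gp ((ζ' * z1⁻¹)⁻¹.1 * (z1⁻¹.1 * x')) ≫ pp) := by
        rw [conjM hP, hal, ← gp_add, MonObj.mul_comp _ _ pm, GmPts.ptOfUnit_mul z1 (ζ' * z1⁻¹), MonObj.mul_comp (GmPts.ptOfUnit z1) (GmPts.ptOfUnit (ζ' * z1⁻¹)) av,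
          MonObj.mul_comp _ _ i]
        simp only [_root_.mul_assoc]
    _ = _ := by
        rw [mul_comm z1 (ζ' * z1⁻¹), inv_mul_cancel_right,
          show (ζ' * z1⁻¹)⁻¹.1 * (z1⁻¹.1 * x') = ζ'⁻¹.1 * x' by
            rw [hi]; linear_combination ζ'⁻¹.1 * x' * Units.mul_inv z1,
          show z1⁻¹.1 * b1.1 + (z1 * z1)⁻¹.1 * ((ζ' * z1⁻¹)⁻¹.1 * b2.1) = ζ'⁻¹.1 * b' by
            rw [hi, hb2, _root_.mul_inv_rev, Units.val_mul]
            linear_combination (z1⁻¹.1 * ζ'⁻¹.1 * (b' - b1.1)) * Units.inv_mul z1 - z1⁻¹.1 * b1.1 * Units.inv_mul ζ' +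
              z1⁻¹.1 * b1.1 * ζ'⁻¹.1 * hζ' - z1⁻¹.1 * ζ'⁻¹.1 * b' * hz1 + b' * ζ'⁻¹.1 * Units.inv_mul z1]

theorem inCell_iff {X : Over S} (x b : Γ(X.left, ⊤)) :
    InCell i pp pm ((gp x ≫ pp) * (gp b ≫ pm)) ↔ IsUnit (1 + kv k X * x * b) := by
  refine ⟨fun h => isUnit_of_geom _ fun K _ _ q e h0 => ?_, fun ⟨ζ, hζ⟩ => (rule hP hnc hk h2 hav x b ζ hζ).inCell⟩
  rw [map_add, map_one, map_mul, map_mul, kv_comp] at h0
  have hb : e.left.appTop b ≠ 0 := fun hb => by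
    rw [hb, mul_zero, add_zero] at h0
    exact one_ne_zero_pt q h0
  obtain ⟨bu, hbu⟩ := isUnit_of_ne_zero hb
  have h' := inCell_comp i pp pm e h
  rw [comp_pair, ← hbu, (scale hP _ bu).1] at h'
  refine ne_zero_of_isUnit ((inD_iff hP hnc hk _).1 h') ?_
  rw [hbu]
  linear_combination h0

end Groth.Agent.CommFormLib
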