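import Groth.Agent.CommFormLib.Basic
import Groth.Agent.RankOneCellLib.RootHom

/-!
# Points with values in algebras over an affine scheme, and geometric points
-/

set_option autoImplicit false
set_option backward.isDefEq.respectTransparency false
set_option backward.isDefEq.respectTransparency.types false
set_option linter.style.haveILetI false
set_option linter.unusedSectionVars false

universe u

open CategoryTheory Limits MonoidalCategory CartesianMonoidalCategory MonObj GrpObj AlgebraicGeometry TopologicalSpace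

noncomputable section

namespace Groth.Agent.CommFormLib

open Groth.Agent.RankOneRelLib Groth.Agent.RankOneCellLib
open Groth.Agent.GaPoints (ringMap ringMap_injective ringMap_comp_SpecMap exists_ringMap)

variable {S : Scheme.{u}}

/-- A constant as a function on an affine test object. -/
abbrev cst {A : CommRingCat.{u}} (q : Spec A ⟶ S) (r : A) : Γ((Over.mk q).left, ⊤) :=
  (Scheme.ΓSpecIso A).inv.hom r

theorem cst_injective {A : CommRingCat.{u}} (q : Spec A ⟶ S) : Function.Injective (cst q) :=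
  (ConcreteCategory.bijective_of_isIso (Scheme.ΓSpecIso A).inv).1

theorem cst_surjective {A : CommRingCat.{u}} (q : Spec A ⟶ S) (a : Γ((Over.mk q).left, ⊤)) : ∃ r : A, cst q r = a :=
  (ConcreteCategory.bijective_of_isIso (Scheme.ΓSpecIso A).inv).2 a

theorem pullback_cst {A : CommRingCat.{u}} (q : Spec A ⟶ S) {X : Over S} (f : X ⟶ Over.mk q) (r : A) :
    f.left.appTop (cst q r) = ringMap f.left r := rfl

theorem ringMap_id {A : CommRingCat.{u}} (q : Spec A ⟶ S) (r : A) :
    ringMap (Y := (Over.mk q).left) (𝟙 (Over.mk q) : Over.mk q ⟶ Over.mk q).left r = cst q r := rfl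

/-- An algebra map gives a morphism to the spectrum of the algebra. -/
theorem exists_over {A B : CommRingCat.{u}} (q : Spec A ⟶ S) (g : A ⟶ B) {X : Over S} (e : X ⟶ Over.mk q)
    (ψ : B →+* Γ(X.left, ⊤)) (hψ : ψ.comp g.hom = ringMap e.left) :
    ∃ f : X ⟶ Over.mk (Spec.map g ≫ q), ringMap f.left = ψ ∧ f.left ≫ Spec.map g = e.left := by
  obtain ⟨fl, hfl⟩ := exists_ringMap (R := B) ψ
  have hw : fl ≫ Spec.map g = e.left := by
    refine ringMap_injective (RingHom.ext fun r => ?_)
    rw [ringMap_comp_SpecMap, hfl, ← hψ]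
    rfl
  refine ⟨Over.homMk fl (show fl ≫ Spec.map g ≫ q = X.hom by rw [← Category.assoc, hw]; exact Over.w e), hfl, hw⟩

theorem appTop_comp {X Y Z : Over S} (f : X ⟶ Y) (g : Y ⟶ Z) (a : Γ(Z.left, ⊤)) :
    (f ≫ g).left.appTop a = f.left.appTop (g.left.appTop a) := rfl

/-- Equality of morphisms can be checked on affine test objects. -/
theorem eq_of_affine {X Y : Over S} (f g : X ⟶ Y)
    (h : ∀ (A : CommRingCat.{u}) (q : Spec A ⟶ S) (e : Over.mk q ⟶ X), e ≫ f = e ≫ g) : f = g := by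
  refine Over.OverMorphism.ext (Scheme.Cover.hom_ext X.left.affineCover _ _ fun j => ?_)
  exact congrArg CommaMorphism.left
    (h _ (X.left.affineCover.f j ≫ X.hom) (Over.homMk (X.left.affineCover.f j)))

theorem exists_geom (X : Over S) (x : X.left) :
    ∃ (K : Type u) (_ : Field K) (_ : IsAlgClosed K) (q : Spec (CommRingCat.of K) ⟶ S) (y : Over.mk q ⟶ X),
      x ∈ Set.range y.left.base := by
  let K := AlgebraicClosure (X.left.residueField x)
  let yl : Spec (CommRingCat.of K) ⟶ X.left :=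
    Spec.map (CommRingCat.ofHom (algebraMap (X.left.residueField x) K)) ≫ X.left.fromSpecResidueField x
  exact ⟨K, inferInstance, inferInstance, yl ≫ X.hom, Over.homMk yl,
    IsLocalRing.closedPoint K, Scheme.fromSpecResidueField_apply x _⟩

theorem isUnit_of_ne_zero {K : Type u} [Field K] {q : Spec (CommRingCat.of K) ⟶ S} {a : Γ((Over.mk q).left, ⊤)}
    (h : a ≠ 0) : IsUnit a := by
  obtain ⟨r, rfl⟩ := cst_surjective q a
  exact (isUnit_iff_ne_zero.2 (fun h0 => h (by rw [h0]; exact map_zero _))).map (Scheme.ΓSpecIso (CommRingCat.of K)).inv.hom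

theorem one_ne_zero_pt {K : Type u} [Field K] (q : Spec (CommRingCat.of K) ⟶ S) :
    (1 : Γ((Over.mk q).left, ⊤)) ≠ 0 := fun h => by
  have h' := congrArg (Scheme.ΓSpecIso (CommRingCat.of K)).hom.hom h
  rw [map_one, map_zero] at h'
  exact one_ne_zero (α := K) h'

theorem isUnit_of_geom {X : Over S} (a : Γ(X.left, ⊤))
    (h : ∀ (K : Type u) [Field K] [IsAlgClosed K] (q : Spec (CommRingCat.of K) ⟶ S) (e : Over.mk q ⟶ X),
      e.left.appTop a ≠ 0) : IsUnit a := by
  refine isUnit_of_forall_mem_basicOpen _ fun s => ?_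
  obtain ⟨K, _, _, q, e, z, hz⟩ := exists_geom X s
  have hm : z ∈ e.left ⁻¹ᵁ X.left.basicOpen a := by
    rw [Scheme.preimage_basicOpen_top, Scheme.basicOpen_of_isUnit _ (isUnit_of_ne_zero (h K q e))]
    trivial
  rw [← hz]
  exact hm

theorem ne_zero_of_isUnit {K : Type u} [Field K] {q : Spec (CommRingCat.of K) ⟶ S} {a : Γ((Over.mk q).left, ⊤)}
    (h : IsUnit a) : a ≠ 0 := fun h0 => by
  rw [h0, isUnit_zero_iff] at h
  exact one_ne_zero_pt q h.symm

variable {G T : Over S} [GrpObj G] [GrpObj T] {i : T ⟶ G} [IsMonHom i] {α : T ⟶ Red.Gm S} [IsMonHom α]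
  {pp pm : Red.Ga S ⟶ G} [IsMonHom pp] [IsMonHom pm]

theorem inD_of_geom {X : Over S} (a : Γ(X.left, ⊤))
    (h : ∀ (K : Type u) [Field K] [IsAlgClosed K] (q : Spec (CommRingCat.of K) ⟶ S) (e : Over.mk q ⟶ X),
      InD i pp pm (e.left.appTop a)) : InD i pp pm a := by
  rintro _ ⟨x, rfl⟩
  obtain ⟨K, _, _, q, e, z, hz⟩ := exists_geom X x
  have h' : InD i pp pm (e.left.appTop a) := h K q e
  have e1 := comp_pair (pp := pp) (pm := pm) e a 1
  rw [map_one] at e1
  unfold InD at h'
  rw [← e1] at h'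
  rw [← hz]
  exact h' ⟨z, rfl⟩

variable [hΩ : IsOpenImmersion (cellMap i pp pm).left] (hP : Pre i α pp pm)

include hP in
theorem isUnit_F {X : Over S} {a F H : Γ(X.left, ⊤)} {C : X ⟶ T} (h : Rel i pp pm a 1 F C H) : IsUnit F := by
  refine isUnit_of_geom F fun K _ _ q e h0 => ?_
  have h' := h.comp e
  rw [map_one, h0] at h'
  unfold Rel at h'
  rw [gp_zero_comp, _root_.one_mul] at h'
  have e1 : (gp (1 : Γ((Over.mk q).left, ⊤)) ≫ pm) * ((1 : Over.mk q ⟶ T) ≫ i) * (gp (0 : Γ((Over.mk q).left, ⊤)) ≫ pp) =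
      (gp (0 : Γ((Over.mk q).left, ⊤)) ≫ pm) * ((e ≫ C) ≫ i) *
        (gp ((alH α _ (e ≫ C))⁻¹.1 * -(e.left.appTop a) + e.left.appTop H) ≫ pp) := by
    rw [MonObj.one_comp, gp_zero_comp, gp_zero_comp, _root_.mul_one, _root_.mul_one, _root_.one_mul, ← gp_add,
      MonObj.mul_comp, ← _root_.mul_assoc, ← inv_mul_cancel_left (gp (e.left.appTop a) ≫ pp)
      (gp (1 : Γ((Over.mk q).left, ⊤)) ≫ pm), ← h', ← _root_.mul_assoc]
    congr 1
    rw [show (gp (e.left.appTop a) ≫ pp)⁻¹ = gp (-(e.left.appTop a)) ≫ pp from inv_eq_of_mul_eq_one_right (by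
      rw [← MonObj.mul_comp, gp_add, add_neg_cancel, gp_zero_comp])]
    rw [conjP hP, ← _root_.mul_assoc (alH α _ (e ≫ C) : Γ((Over.mk q).left, ⊤)), Units.mul_inv, _root_.one_mul]
  obtain ⟨e2, -, -⟩ := cell_inj i pp pm e1
  exact one_ne_zero_pt q (by simpa [gaFn_gp] using congrArg Red.gaFn e2)

end Groth.Agent.CommFormLib
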