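import Groth.Agent.CommFormLib.Field

/-!
# If every value lies in the locus then the two root groups commute
-/

set_option autoImplicit false
set_option backward.isDefEq.respectTransparency false
set_option backward.isDefEq.respectTransparency.types false
set_option linter.style.haveILetI false
set_option linter.unusedSectionVars false

universe u

open CategoryTheory Limits MonoidalCategory CartesianMonoidalCategory MonObj GrpObj AlgebraicGeometry TopologicalSpace

noncomputable section

namespace Groth.Agent.CommFormLib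

open Groth.Agent.RankOneRelLib Groth.Agent.RankOneCellLib
open Groth.Agent.GaPoints (ringMap ringMap_injective ringMap_comp_SpecMap exists_ringMap)

variable {S : Scheme.{u}} {G T : Over S} [GrpObj G] [GrpObj T] {i : T ⟶ G} [IsMonHom i] {α : T ⟶ Red.Gm S}
  [IsMonHom α] {pp pm : Red.Ga S ⟶ G} [IsMonHom pp] [IsMonHom pm]
  [hΩ : IsOpenImmersion (cellMap i pp pm).left] (hP : Pre i α pp pm)

include hP

/-- The torus component is trivial when the torus is split. -/
theorem torus_eq_one {L : Type u} [Field L] {qb : Spec (CommRingCat.of L) ⟶ S} {M : Type} [AddCommGroup M]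
    (σ : FixedSmooth.Split T qb M) {F H : Γ((line qb).left, ⊤)} {C : line qb ⟶ T}
    (h : Rel i pp pm (crd qb) 1 F C H) : C = 1 := by
  let B : CommRingCat.{u} := CommRingCat.of (Polynomial L)
  let qC : Spec B ⟶ Spec (CommRingCat.of L) := Spec.map (CommRingCat.ofHom (Polynomial.C : L →+* Polynomial L))
  let g₀ : B ⟶ B := CommRingCat.ofHom ((Polynomial.C : L →+* Polynomial L).comp (Polynomial.evalRingHom 0))
  have hq : Spec.map g₀ ≫ qC = qC := by
    rw [← Spec.map_comp]
    exact congrArg Spec.map (CommRingCat.hom_ext (RingHom.ext fun r => congrArg Polynomial.C Polynomial.eval_C))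
  obtain ⟨χ, hχ⟩ := (σ.pt B qC).surjective C
  have hconst : g₀.hom.toMonoidHom.comp χ = χ := MonoidHom.ext fun m => by
    obtain ⟨c, -, hc⟩ := Polynomial.isUnit_iff.1 ((Group.isUnit m).map χ)
    show Polynomial.C (Polynomial.eval 0 (χ m)) = χ m
    rw [← hc, Polynomial.eval_C]
  have h1 := σ.nat B B qC g₀ χ
  rw [hχ, hconst] at h1
  -- the composite with the zero section is trivial
  have hz : (FixedSmooth.tr qb qC g₀).left.appTop (crd qb) = 0 := by
    have e := congrArg (fun m => m.hom (Polynomial.X : Polynomial L)) (Scheme.ΓSpecIso_inv_naturality g₀)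
    refine e.symm.trans ?_
    show (Scheme.ΓSpecIso B).inv.hom (Polynomial.C (Polynomial.eval 0 (Polynomial.X : Polynomial L))) = 0
    rw [Polynomial.eval_X, map_zero, map_zero]
  have h2 := h.comp (FixedSmooth.tr qb qC g₀)
  rw [hz, map_one] at h2
  obtain ⟨-, h3, -⟩ := h2.inj (rel_zero _)
  rw [h3] at h1
  have hone : ∀ (p p' : Spec B ⟶ Spec (CommRingCat.of L)), p = p' →
      (1 : Over.mk (p ≫ qb) ⟶ T).left = (1 : Over.mk (p' ≫ qb) ⟶ T).left := by
    rintro p p' rfl; rfl
  have hpt : ∀ (p p' : Spec B ⟶ Spec (CommRingCat.of L)), p = p' →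
      (σ.pt B p χ).left = (σ.pt B p' χ).left := by
    rintro p p' rfl; rfl
  refine Over.OverMorphism.ext ?_
  have e := congrArg CommaMorphism.left h1
  rw [← hχ, ← hpt _ _ hq]
  exact e.symm.trans (hone _ _ hq)

/-- Over a split torus, every decomposition is trivial. -/
theorem rel_self {L : Type u} [Field L] [Infinite L] {qb : Spec (CommRingCat.of L) ⟶ S} {M : Type} [AddCommGroup M]
    (σ : FixedSmooth.Split T qb M)
    (hall : ∀ (X : Over S) (_ : X ⟶ Over.mk qb) (a : Γ(X.left, ⊤)), InD i pp pm a)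
    {X : Over S} (e : X ⟶ Over.mk qb) (a : Γ(X.left, ⊤)) : Rel i pp pm a 1 1 1 a := by
  let qC : Spec (CommRingCat.of (Polynomial L)) ⟶ S :=
    Spec.map (CommRingCat.ofHom (Polynomial.C : L →+* Polynomial L)) ≫ qb
  let κ : Polynomial L → Γ((line qb).left, ⊤) := cst qC (A := CommRingCat.of (Polynomial L))
  have κ_mul : ∀ p p', κ p * κ p' = κ (p * p') := fun p p' => (map_mul _ _ _).symm
  have κ_one : κ 1 = 1 := map_one _
  have κ_inj : Function.Injective κ := cst_injective qC
  let e₁ : line qb ⟶ Over.mk qb := Over.homMk (Spec.map (CommRingCat.ofHom (Polynomial.C : L →+* Polynomial L)))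
  obtain ⟨F, C, H, h⟩ := exists_rel (hall (line qb) e₁ (crd qb))
  obtain ⟨pF, rfl⟩ : ∃ p, κ p = F := cst_surjective qC F
  obtain ⟨ω, rfl⟩ : ∃ p, κ p = H := cst_surjective qC H
  have hC := torus_eq_one hP σ h
  subst hC
  -- the value at zero
  obtain ⟨f₀, hf₀⟩ := exists_line qb (𝟙 _) (0 : Γ((Over.mk qb).left, ⊤))
  have hp₀ : ∀ p : Polynomial L, f₀.left.appTop (κ p) = cst qb (p.eval 0) := fun p => by
    rw [hf₀, show (0 : Γ((Over.mk qb).left, ⊤)) = ringMap (Y := (Over.mk qb).left)
      (𝟙 (Over.mk qb) : Over.mk qb ⟶ Over.mk qb).left (0 : L) from (map_zero _).symm]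
    exact Polynomial.eval₂_at_apply _ _
  have h0 := h.comp f₀
  rw [show crd qb = κ Polynomial.X from rfl, hp₀, hp₀, hp₀, map_one, Polynomial.eval_X,
    show cst qb (0 : L) = 0 from map_zero _] at h0
  obtain ⟨hF0, -, hH0⟩ := h0.inj (rel_zero _)
  have hpF : pF = 1 := by
    have hu : IsUnit (κ pF) := isUnit_F hP h
    have hu' : IsUnit pF := by
      have := hu.map (Scheme.ΓSpecIso (CommRingCat.of (Polynomial L))).hom.hom
      exact (congrArg IsUnit ((Scheme.ΓSpecIso (CommRingCat.of (Polynomial L))).inv_hom_id_apply pF)).mp this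
    obtain ⟨c, -, rfl⟩ := Polynomial.isUnit_iff.1 hu'
    rw [Polynomial.eval_C] at hF0
    rw [show c = 1 from cst_injective qb (hF0.trans (map_one _).symm), map_one]
  subst hpF
  rw [κ_one] at h
  have gen : ∀ {X : Over S} (e : X ⟶ Over.mk qb) (a : Γ(X.left, ⊤)),
      Rel i pp pm a 1 1 1 (ω.eval₂ (ringMap e.left) a) := fun {X} e a => by
    obtain ⟨f, hf⟩ := exists_line qb e a
    have h' := h.comp f
    rw [show crd qb = κ Polynomial.X from rfl, hf, hf, Polynomial.eval₂_X, map_one, MonObj.comp_one] at h'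
    exact h'
  suffices hω : ω = Polynomial.X by
    have := gen e a
    rwa [hω, Polynomial.eval₂_X] at this
  -- the functional equation
  obtain ⟨c, hc⟩ := Set.Finite.exists_notMem (s := ({0, -1} : Set L)) (Set.toFinite _)
  simp only [Set.mem_insert_iff, Set.mem_singleton_iff, not_or] at hc
  have hd : 1 + c ≠ 0 := fun hd => hc.2 (by linear_combination hd)
  let cu : Lˣ := Units.mk0 c hc.1
  let du : Lˣ := Units.mk0 (1 + c) hd
  let κu : Lˣ → Γ((line qb).left, ⊤)ˣ := fun z =>
    Units.map (Scheme.ΓSpecIso (CommRingCat.of (Polynomial L))).inv.hom.toMonoidHom (Units.map (Polynomial.C : L →+* Polynomial L).toMonoidHom z)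
  have heval : ∀ p : Polynomial L, ω.eval₂ (ringMap e₁.left) (κ p) = κ (ω.comp p) := fun p => by
    have hr : (ringMap e₁.left : L →+* Γ((line qb).left, ⊤)) =
        (Scheme.ΓSpecIso (CommRingCat.of (Polynomial L))).inv.hom.comp Polynomial.C := RingHom.ext fun r => by
      exact congrArg (fun m => m.hom r) (Scheme.ΓSpecIso_inv_naturality (CommRingCat.ofHom (Polynomial.C : L →+* Polynomial L))).symm
    rw [hr]
    exact (Polynomial.hom_eval₂ ω Polynomial.C _ p).symm
  have h1 := gen e₁ (κ (ω * Polynomial.C c))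
  have hl := rel_addM hP h (κu cu) (F' := 1) (C' := 1) (H' := κ (ω.comp (ω * Polynomial.C c))) (by
    rw [← heval]
    rw [show κ ω * (κu cu).1 = κ (ω * Polynomial.C c) from κ_mul _ _]
    exact h1)
  have hr := (scale hP (crd qb) (κu du)).2 1 1 (κ (ω.comp (Polynomial.X * Polynomial.C (1 + c)))) (by
    rw [show crd qb * (κu du).1 = κ (Polynomial.X * Polynomial.C (1 + c)) from κ_mul _ _, ← heval]
    exact gen e₁ _)
  rw [show (κu du).1 = 1 + (κu cu).1 by
    show κ (Polynomial.C (1 + c)) = 1 + κ (Polynomial.C c)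
    rw [map_add, map_one, ← κ_one]; exact map_add _ _ _] at hr
  obtain ⟨-, -, key⟩ := hl.inj hr
  have key' : Polynomial.C (1 + c) * ω.comp (ω * Polynomial.C c) =
      Polynomial.C c * ω.comp (Polynomial.X * Polynomial.C (1 + c)) := κ_inj (by
    rw [← κ_mul, ← κ_mul]
    have e2 : ∀ z : Lˣ, κ (Polynomial.C (z : L)) * (κu z)⁻¹.1 = 1 := fun z => (κu z).mul_inv
    have a1 : κ (Polynomial.C c) * (κu cu)⁻¹.1 = 1 := e2 cu
    have a2 : κ (Polynomial.C (1 + c)) * (κu du)⁻¹.1 = 1 := e2 du
    linear_combination κ (Polynomial.C c) * κ (Polynomial.C (1 + c)) * key -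
      κ (Polynomial.C (1 + c)) * κ (ω.comp (ω * Polynomial.C c)) * a1 +
      κ (Polynomial.C c) * κ (ω.comp (Polynomial.X * Polynomial.C (1 + c))) * a2)
  rw [show cst qb (ω.eval 0) = cst qb (ω.eval 0) from rfl] at hH0
  have hω0 : ω.eval 0 = 0 := cst_injective qb (hH0.trans (map_zero _).symm)
  have hdeg : ω.natDegree ≤ 1 := by
    have k := congrArg Polynomial.natDegree key'
    rw [Polynomial.natDegree_C_mul hd, Polynomial.natDegree_C_mul hc.1, Polynomial.natDegree_comp,
      Polynomial.natDegree_comp, Polynomial.natDegree_mul_C hc.1, Polynomial.natDegree_mul_C hd,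
      Polynomial.natDegree_X, _root_.mul_one] at k
    rcases Nat.eq_zero_or_pos ω.natDegree with h' | h'
    · omega
    · exact le_of_mul_le_mul_left (by rw [k, _root_.mul_one]) h'
  obtain ⟨lam, mu, rfl⟩ := Polynomial.exists_eq_X_add_C_of_natDegree_le_one hdeg
  simp only [Polynomial.eval_add, Polynomial.eval_mul, Polynomial.eval_C, Polynomial.eval_X, mul_zero, zero_add] at hω0
  subst hω0
  have k := congrArg (Polynomial.eval 1) key'
  simp only [map_zero, add_zero, Polynomial.eval_mul, Polynomial.eval_comp, Polynomial.eval_C, Polynomial.eval_X,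
    _root_.mul_one, _root_.one_mul] at k
  have hl' : lam * (lam - 1) = 0 := by
    have : c * (1 + c) * (lam * (lam - 1)) = 0 := by linear_combination k
    exact (mul_eq_zero.1 this).resolve_left (mul_ne_zero hc.1 hd)
  rcases mul_eq_zero.1 hl' with h' | h'
  · subst h'
    exfalso
    have := gen (𝟙 (Over.mk qb)) (1 : Γ((Over.mk qb).left, ⊤))
    simp only [map_zero, zero_mul, add_zero, Polynomial.eval₂_zero] at this
    unfold Rel at this
    rw [gp_zero_comp, MonObj.one_comp, _root_.mul_one, _root_.mul_one, right_eq_mul] at this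
    have e2 : (gp (0 : Γ((Over.mk qb).left, ⊤)) ≫ pm) * ((1 : Over.mk qb ⟶ T) ≫ i) * (gp (1 : Γ((Over.mk qb).left, ⊤)) ≫ pp) =
        (gp (0 : Γ((Over.mk qb).left, ⊤)) ≫ pm) * ((1 : Over.mk qb ⟶ T) ≫ i) * (gp (0 : Γ((Over.mk qb).left, ⊤)) ≫ pp) := by
      rw [this, gp_zero_comp, gp_zero_comp]
    obtain ⟨-, -, e3⟩ := cell_inj i pp pm e2
    exact one_ne_zero_pt qb (by simpa [gaFn_gp] using congrArg Red.gaFn e3)
  · rw [sub_eq_zero.1 h', map_one, map_zero, _root_.one_mul, add_zero]

/-- If the locus is everything, the root groups commute. -/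
theorem commute_of_all {K : Type u} [Field K] [Infinite K] {q : Spec (CommRingCat.of K) ⟶ S}
    (hall : ∀ (X : Over S) (_ : X ⟶ Over.mk q) (a : Γ(X.left, ⊤)), InD i pp pm a)
    {X : Over S} (e : X ⟶ Over.mk q) (a b : Γ(X.left, ⊤)) :
    (gp a ≫ pp) * (gp b ≫ pm) = (gp b ≫ pm) * (gp a ≫ pp) := by
  obtain ⟨L, _, k, r, hkf, hks, ⟨σ⟩⟩ := exists_split_point hP.tor q
  haveI := hkf
  haveI := hks
  obtain ⟨ψ, rfl⟩ := Spec.map_surjective k
  haveI : Infinite L := Infinite.of_injective ψ.hom ψ.hom.injective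
  let qb := Spec.map ψ ≫ q
  have hall' : ∀ (X : Over S) (_ : X ⟶ Over.mk qb) (a : Γ(X.left, ⊤)), InD i pp pm a := fun X e a =>
    hall X (e ≫ Over.homMk (Spec.map ψ)) a
  let X' : Over S := Over.mk (pullback.fst e.left (Spec.map ψ) ≫ X.hom)
  let p : X' ⟶ X := Over.homMk (pullback.fst e.left (Spec.map ψ))
  haveI : Flat p.left := MorphismProperty.pullback_fst _ _ hkf
  haveI : Surjective p.left := MorphismProperty.pullback_fst _ _ hks
  haveI : Epi p := epi_of_flat_surj p inferInstance inferInstance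
  let e' : X' ⟶ Over.mk qb := Over.homMk (pullback.snd e.left (Spec.map ψ)) (by
    show pullback.snd e.left (Spec.map ψ) ≫ Spec.map ψ ≫ q = pullback.fst e.left (Spec.map ψ) ≫ X.hom
    rw [← pullback.condition_assoc]
    exact congrArg (pullback.fst e.left (Spec.map ψ) ≫ ·) (Over.w e))
  obtain ⟨X'', p', hp', v, hv, hv', -⟩ := exists_three X' 0 (p.left.appTop b)
  haveI := hp'
  have hcomm : ∀ (a : Γ(X''.left, ⊤)) (c : Γ(X''.left, ⊤)ˣ),
      (gp a ≫ pp) * (gp c.1 ≫ pm) = (gp c.1 ≫ pm) * (gp a ≫ pp) := fun a c => by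
    have h := (scale hP a c).2 _ _ _ (rel_self hP σ hall' (p' ≫ e') (a * c.1))
    unfold Rel at h
    rw [_root_.mul_one, MonObj.one_comp, _root_.mul_one,
      show c⁻¹.1 * (a * c.1) = a by linear_combination a * Units.inv_mul c] at h
    exact h.symm
  obtain ⟨v1, hv1⟩ := hv
  obtain ⟨v2, hv2⟩ := hv'
  rw [← cancel_epi (p' ≫ p)]
  simp only [MonObj.comp_mul, comp_root]
  set a' := (p' ≫ p).left.appTop a
  rw [show (p' ≫ p).left.appTop b = v1.1 + v2.1 by rw [hv1, hv2, add_sub_cancel]; rfl, ← gp_add, MonObj.mul_comp,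
    ← _root_.mul_assoc, hcomm, _root_.mul_assoc, hcomm, _root_.mul_assoc]

end Groth.Agent.CommFormLib
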