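import Groth.Agent.CommFormLib.Affine
import Groth.Agent.RankOneCellLib.GaFibre
import Groth.Agent.GmTorsor.Points

/-!
# The global slope
-/

set_option autoImplicit false
set_option backward.isDefEq.respectTransparency false
set_option backward.isDefEq.respectTransparency.types false
set_option linter.style.haveILetI false
set_option linter.unusedSectionVars false

universe u

open CategoryTheory Limits MonoidalCategory CartesianMonoidalCategory MonObj GrpObj AlgebraicGeometry TopologicalSpace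

noncomputable section

namespace Groth.Agent.CommFormLib

open Groth.Agent.RankOneRelLib Groth.Agent.RankOneCellLib
open Groth.Agent.GaPoints (ringMap ringMap_injective ringMap_comp_SpecMap exists_ringMap)

variable {S : Scheme.{u}} {G T : Over S} [GrpObj G] [GrpObj T]
  {i : T ⟶ G} [IsMonHom i] {α : T ⟶ Red.Gm S}
  [IsMonHom α] {pp pm : Red.Ga S ⟶ G} [IsMonHom pp] [IsMonHom pm]
  [hΩ : IsOpenImmersion (cellMap i pp pm).left] (hP : Pre i α pp pm) (hnc : NC pp pm)

/-- The value of the slope on a test object. -/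
abbrev kv (k : 𝟙_ (Over S) ⟶ Red.Gm S) (X : Over S) : Γ(X.left, ⊤) := Red.gmFn (toUnit X ≫ k)

theorem kv_comp (k : 𝟙_ (Over S) ⟶ Red.Gm S) {X X' : Over S} (f : X' ⟶ X) :
    f.left.appTop (kv k X) = kv k X' := by
  rw [kv, kv, ← GmPts.gmFn_comp, ← Category.assoc, comp_toUnit]

theorem isUnit_kv (k : 𝟙_ (Over S) ⟶ Red.Gm S) (X : Over S) : IsUnit (kv k X) :=
  GmPts.isUnit_gmFn _

include hP hnc

/-- Units in the locus have a common slope. -/
theorem exists_slope : ∃ k : 𝟙_ (Over S) ⟶ Red.Gm S, ∀ (X : Over S) (v F H : Γ(X.left, ⊤)) (C : X ⟶ T),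
    IsUnit v → Rel i pp pm v 1 F C H → F * (1 + kv k X * v) = 1 := by
  let U : Over S := Red.Ga S
  let co : Γ(U.left, ⊤) := Red.gaFn (𝟙 U)
  let g : U ⟶ G := (gp co ≫ pp) * (gp (1 : Γ(U.left, ⊤)) ≫ pm)
  let O : U.left.Opens := U.left.basicOpen co ⊓ g.left ⁻¹ᵁ (cellMap i pp pm).left.opensRange
  let W : Over S := Over.mk (O.ι ≫ U.hom)
  let ιW : W ⟶ U := Over.homMk O.ι
  have hlift : ∀ (X : Over S) (v : Γ(X.left, ⊤)), IsUnit v → InD i pp pm v →
      ∃ w : X ⟶ W, w.left.appTop (ιW.left.appTop co) = v := by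
    intro X v hv hd
    have hco : (gp v : X ⟶ U).left.appTop co = v := by
      rw [← GaPoints.gaFn_comp, Category.comp_id, gaFn_gp]
    have hr : Set.range (gp v : X ⟶ U).left.base ⊆ Set.range O.ι.base := by
      rintro _ ⟨x, rfl⟩
      refine (Scheme.Opens.range_ι O).ge ⟨?_, ?_⟩
      · show x ∈ (gp v : X ⟶ U).left ⁻¹ᵁ U.left.basicOpen co
        rw [Scheme.preimage_basicOpen_top, Scheme.basicOpen_of_isUnit _ (by rwa [hco])]
        trivial
      · have e : (gp v : X ⟶ U) ≫ g = (gp v ≫ pp) * (gp (1 : Γ(X.left, ⊤)) ≫ pm) := by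
          rw [comp_pair, hco, map_one]
        show ((gp v : X ⟶ U) ≫ g).left.base x ∈ Set.range _
        rw [e]
        exact hd ⟨x, rfl⟩
    refine ⟨Over.homMk (IsOpenImmersion.lift O.ι (gp v : X ⟶ U).left hr)
      (show _ ≫ O.ι ≫ U.hom = _ by rw [IsOpenImmersion.lift_fac_assoc]; exact Over.w _), ?_⟩
    rw [← appTop_comp]
    refine Eq.trans (congrArg (fun m : X ⟶ U => m.left.appTop co) ?_) hco
    exact Over.OverMorphism.ext (IsOpenImmersion.lift_fac _ _ _)
  let vW : Γ(W.left, ⊤) := ιW.left.appTop co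
  have hvW : IsUnit vW := isUnit_of_forall_mem_basicOpen _ fun w => by
    show w ∈ (O : Scheme.{u}).basicOpen (O.ι.appTop co)
    rw [← Scheme.preimage_basicOpen_top]
    exact w.2.1
  have hdW : InD i pp pm vW := by
    have e : ιW ≫ g = (gp vW ≫ pp) * (gp (1 : Γ(W.left, ⊤)) ≫ pm) := by rw [comp_pair, map_one]
    show InCell i pp pm _
    rw [← e]
    rintro _ ⟨w, rfl⟩
    exact w.2.2
  -- the cover is faithfully flat and locally of finite presentation
  haveI : Flat U.hom := GmTorsor.flat_Ga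
  haveI : Flat W.hom := inferInstanceAs (Flat (O.ι ≫ U.hom))
  haveI : Smooth U.hom := smooth_Ga S
  haveI : LocallyOfFinitePresentation W.hom := inferInstanceAs (LocallyOfFinitePresentation (O.ι ≫ U.hom))
  haveI : Surjective W.hom := by
    refine ⟨fun s => ?_⟩
    obtain ⟨K, _, _, q, y, z, hz⟩ := exists_geom (Over.mk (𝟙 S)) s
    obtain ⟨a, ha, ha'⟩ := exists_inD_not_mem hP q (Set.finite_singleton (0 : K))
    obtain ⟨w, -⟩ := hlift (Over.mk q) (cst q a)
      ((isUnit_iff_ne_zero.2 ha').map (Scheme.ΓSpecIso (CommRingCat.of K)).inv.hom) ha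
    refine ⟨w.left.base z, ?_⟩
    show (w.left ≫ W.hom).base z = s
    rw [Over.w w, ← Over.w y]
    exact hz
  obtain ⟨FW, CW, HW, hW⟩ := exists_rel hdW
  obtain ⟨Fu, rfl⟩ := isUnit_F hP hW
  obtain ⟨vu, hvu⟩ := hvW
  let κ : Γ(W.left, ⊤) := (Fu⁻¹.1 - 1) * vu⁻¹.1
  have hκ : Fu.1 * (1 + κ * vW) = 1 := by
    rw [← hvu]
    linear_combination Units.mul_inv Fu + (Fu.1 * (Fu⁻¹.1 - 1)) * Units.inv_mul vu
  have hnat : ∀ {X : Over S} (w : X ⟶ W), Rel i pp pm (w.left.appTop vW) 1 (w.left.appTop Fu.1) (w ≫ CW)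
      (w.left.appTop HW) ∧ w.left.appTop Fu.1 * (1 + w.left.appTop κ * w.left.appTop vW) = 1 := fun {X} w => by
    refine ⟨?_, by rw [← map_mul w.left.appTop.hom, ← map_one w.left.appTop.hom, ← map_add, ← map_mul, hκ]⟩
    have h := hW.comp w
    rwa [map_one] at h
  obtain ⟨κu, hκu⟩ : IsUnit κ := isUnit_of_geom κ fun K _ _ q e h0 => by
    obtain ⟨h1, h2⟩ := hnat e
    obtain ⟨Q, hQ0, -, hQF⟩ := exists_field_q hP hnc q
    obtain ⟨v, hv⟩ := cst_surjective q (e.left.appTop vW)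
    obtain ⟨f, hf⟩ := cst_surjective q (e.left.appTop Fu.1)
    rw [← hv, ← hf] at h1
    have k := hQF _ _ _ _ h1
    rw [h0, zero_mul, add_zero, _root_.mul_one, ← hf] at h2
    rw [show f = 1 from cst_injective q (h2.trans (map_one _).symm), _root_.one_mul, add_eq_left, mul_eq_zero] at k
    refine ne_zero_of_isUnit (vu.isUnit.map e.left.appTop.hom) ?_
    rw [hvu]
    show e.left.appTop vW = 0
    rw [← hv, k.resolve_left hQ0]
    exact map_zero _
  let z : W ⟶ Red.Gm S := GmPts.ptOfUnit κu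
  have hind : ∀ {X : Over S} (g₁ g₂ : X ⟶ W), g₁ ≫ z = g₂ ≫ z := fun {X} g₁ g₂ => by
    refine eq_of_affine _ _ fun A q e => GmPts.gmFn_injective ?_
    show Red.gmFn (e ≫ g₁ ≫ z) = Red.gmFn (e ≫ g₂ ≫ z)
    rw [← Category.assoc, ← Category.assoc, GmPts.gmFn_comp, GmPts.gmFn_comp, GmPts.gmFn_ptOfUnit, hκu]
    obtain ⟨r1, s1⟩ := hnat (e ≫ g₁)
    obtain ⟨r2, s2⟩ := hnat (e ≫ g₂)
    obtain ⟨v1, hv1⟩ := cst_surjective q ((e ≫ g₁).left.appTop vW)
    have hu1 : IsUnit v1 := (cst_isUnit_iff q v1).1 (by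
      rw [hv1, ← hvu]
      exact vu.isUnit.map (e ≫ g₁).left.appTop.hom)
    obtain ⟨q0, -, hq0⟩ := linear_affine hP hnc q v1 hu1 (by rw [hv1]; exact r1.inCell)
    have key : ∀ {v F : Γ((Over.mk q).left, ⊤)} {C : Over.mk q ⟶ T} {H k : Γ((Over.mk q).left, ⊤)},
        IsUnit v → Rel i pp pm v 1 F C H → F * (1 + k * v) = 1 → k = ringMap (Y := (Over.mk q).left)
          (𝟙 (Over.mk q) : Over.mk q ⟶ Over.mk q).left q0 := fun {v F C H k} hv h hk => by
      have h' := (hq0 _ (𝟙 _) v).2 F C H h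
      exact hv.mul_right_cancel (add_left_cancel ((isUnit_F hP h).mul_left_cancel (hk.trans h'.symm)))
    exact (key (by rw [← hvu]; exact vu.isUnit.map _) r1 s1).trans
      (key (by rw [← hvu]; exact vu.isUnit.map _) r2 s2).symm
  let kl : S ⟶ (Red.Gm S).left := EffectiveEpi.desc W.hom z.left fun {Z} g₁ g₂ hg => by
    let Z' : Over S := Over.mk (g₁ ≫ W.hom)
    exact congrArg CommaMorphism.left (hind (Over.homMk g₁ : Z' ⟶ W) (Over.homMk g₂ hg.symm))
  have hkl : W.hom ≫ kl = z.left := EffectiveEpi.fac _ _ _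
  have hkw : kl ≫ (Red.Gm S).hom = 𝟙 S := by
    haveI : Epi W.hom := inferInstance
    rw [← cancel_epi W.hom, ← Category.assoc, hkl, Category.comp_id]
    exact Over.w z
  let k : 𝟙_ (Over S) ⟶ Red.Gm S := Over.homMk kl hkw
  refine ⟨k, fun X v F H C hv h => ?_⟩
  obtain ⟨w, hw⟩ := hlift X v hv h.inCell
  obtain ⟨r, s⟩ := hnat w
  rw [show w.left.appTop vW = v from hw] at r s
  obtain ⟨e1, -, -⟩ := h.inj r
  subst e1
  have hk : toUnit X ≫ k = w ≫ z := by
    refine Over.OverMorphism.ext ?_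
    show X.hom ≫ kl = w.left ≫ z.left
    rw [← hkl, ← Category.assoc]
    exact congrArg (· ≫ kl) (Over.w w).symm
  rw [kv, hk, GmPts.gmFn_comp, GmPts.gmFn_ptOfUnit, hκu]
  exact s

variable {k : 𝟙_ (Over S) ⟶ Red.Gm S}
  (hk : ∀ (X : Over S) (v F H : Γ(X.left, ⊤)) (C : X ⟶ T),
    IsUnit v → Rel i pp pm v 1 F C H → F * (1 + kv k X * v) = 1)

include hk

theorem slope_geom_kv {K : Type u} [Field K] [IsAlgClosed K] (q : Spec (CommRingCat.of K) ⟶ S)
    (b : Γ((Over.mk q).left, ⊤)) :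
    (InD i pp pm b ↔ 1 + kv k (Over.mk q) * b ≠ 0) ∧
      ∀ F C H, Rel i pp pm b 1 F C H → F * (1 + kv k (Over.mk q) * b) = 1 := by
  obtain ⟨v, hv, hv'⟩ := exists_inD_not_mem hP q (Set.finite_singleton (0 : K))
  have hvu : IsUnit v := isUnit_iff_ne_zero.2 hv'
  obtain ⟨F, C, H, h⟩ := exists_rel hv
  obtain ⟨q0, -, hq0⟩ := linear_affine hP hnc (A := CommRingCat.of K) q v hvu hv
  have e : ringMap (Y := (Over.mk q).left) (𝟙 (Over.mk q) : Over.mk q ⟶ Over.mk q).left q0 = kv k (Over.mk q) :=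
    ((cst_isUnit_iff q v).2 hvu).mul_right_cancel (add_left_cancel ((isUnit_F hP h).mul_left_cancel
      (((hq0 _ (𝟙 _) _).2 F C H h).trans (hk _ _ F H C ((cst_isUnit_iff q v).2 hvu) h).symm)))
  have h' := hq0 _ (𝟙 _) b
  rw [e] at h'
  exact ⟨h'.1.trans ⟨ne_zero_of_isUnit, isUnit_of_ne_zero⟩, h'.2⟩

theorem inD_iff {X : Over S} (a : Γ(X.left, ⊤)) : InD i pp pm a ↔ IsUnit (1 + kv k X * a) := by
  refine ⟨fun h => isUnit_of_geom _ fun K _ _ q e => ?_, fun h => inD_of_geom a fun K _ _ q e => ?_⟩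
  · rw [map_add, map_one, map_mul, kv_comp]
    exact (slope_geom_kv hP hnc hk q _).1.1 (h.comp e)
  · refine (slope_geom_kv hP hnc hk q _).1.2 ?_
    have h' := ne_zero_of_isUnit (h.map e.left.appTop.hom)
    rwa [map_add, map_one, map_mul, kv_comp] at h'

theorem rel_F {X : Over S} {a F H : Γ(X.left, ⊤)} {C : X ⟶ T} (h : Rel i pp pm a 1 F C H) :
    F * (1 + kv k X * a) = 1 := by
  obtain ⟨X', f, hf, v, hv, hv', hv''⟩ := exists_three X (kv k X) 0
  haveI := hf
  have hd : InD i pp pm v := (inD_iff hP hnc hk v).2 (by rwa [kv_comp] at hv'')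
  refine congrArg Red.gaFn ?_ |>.trans (gaFn_gp (1 : Γ(X.left, ⊤))) |> (gaFn_gp (F * (1 + kv k X * a))).symm.trans
  rw [← cancel_epi f]
  refine eq_of_affine _ _ fun A q e => ?_
  rw [← Category.assoc, ← Category.assoc, comp_gp, comp_gp, map_one]
  congr 1
  rw [map_mul, map_add, map_one, map_mul, kv_comp]
  obtain ⟨v1, hv1⟩ := cst_surjective q (e.left.appTop v)
  have hu1 : IsUnit v1 := (cst_isUnit_iff q v1).1 (by rw [hv1]; exact hv.map e.left.appTop.hom)
  have hd1 : InD i pp pm (cst q v1) := by rw [hv1]; exact hd.comp e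
  obtain ⟨F1, C1, H1, h1⟩ := exists_rel hd1
  obtain ⟨q0, -, hq0⟩ := linear_affine hP hnc q v1 hu1 hd1
  have eq0 : ringMap (Y := (Over.mk q).left) (𝟙 (Over.mk q) : Over.mk q ⟶ Over.mk q).left q0 = kv k (Over.mk q) :=
    ((cst_isUnit_iff q v1).2 hu1).mul_right_cancel (add_left_cancel ((isUnit_F hP h1).mul_left_cancel
      (((hq0 _ (𝟙 _) _).2 F1 C1 H1 h1).trans (hk _ _ F1 H1 C1 ((cst_isUnit_iff q v1).2 hu1) h1).symm)))
  have hh := h.comp (e ≫ f)
  rw [map_one] at hh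
  have := (hq0 _ (𝟙 _) _).2 _ _ _ hh
  rwa [eq0] at this

end Groth.Agent.CommFormLib
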